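import Cfsg.Agent.Chev.GTwoOdd.ReeS.Cover.St

/-!
# Centraliser orders in a small Ree group and reality of the elements of order prime to three
-/

set_option autoImplicit false
set_option linter.dupNamespace false
set_option linter.unusedSectionVars false
set_option linter.style.haveILetI false

namespace Cfsg.Lib.ReeCover

open Cfsg.Lib.Chev
open Cfsg.Lib.Chev.Ree (Ree SG)
open Cfsg.Lib.ReeStruct
open Cfsg.Lib.GTwoOdd.ReeInv (hv iota)

universe u
variable {K : Type u} [Field K] [Fintype K] (X : Ree K) [Fintype ↥X.G1]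

theorem uu_mul (t u v t' u' v' : K) : ∃ v'' : K,
    X.uu t u v * X.uu t' u' v' = X.uu (t + t') (u + u' - t' ^ (3 * X.e) * t) v'' ∧
    v'' = v + v' - t' ^ (3 * X.e) * t ^ 2 - t' * (u - t' ^ (3 * X.e) * t) := by
  have := Cfsg.Lib.Chev.Ree.charP_three X.hK
  have hmem : X.uu t u v * X.uu t' u' v' ∈ Cfsg.Lie.chevG2.posUnipotent K ⊓ X.G1 :=
    mul_mem (Subgroup.mem_inf.2 ⟨X.uu_mem_U _ _ _, X.uu_mem_G1 _ _ _⟩)
      (Subgroup.mem_inf.2 ⟨X.uu_mem_U _ _ _, X.uu_mem_G1 _ _ _⟩)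
  obtain ⟨a, b, c, h⟩ := X.mem_U1_iff.1 hmem
  refine ⟨c, ?_⟩
  have e : X.uu t u v * X.uu t' u' v' = X.uu a b c := h
  have h' := h
  simp only [Ree.uu, Cfsg.Lib.Chev.Ree.Ree.w6_mul] at h'
  obtain ⟨-, ha, -, -, hb, hc⟩ := Cfsg.Lib.Chev.Ree.Ree.w6_inj h'
  rw [e, ← ha, show b = u + u' - t' ^ (3 * X.e) * t by
    rw [← hb, mul_comm 3 X.e, pow_mul]; ring]
  refine ⟨rfl, ?_⟩
  rw [← hc, mul_comm 3 X.e, pow_mul]; ring

theorem hv_eq : hv X = hs X (-1) := (hs_neg_one X).symm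

theorem cube_vz (p : K × K) : vz X p ^ 3 = 1 := by
  have := Cfsg.Lib.Chev.Ree.charP_three X.hK
  have h3 : (3 : ℕ) • p = 0 := by
    rw [← Nat.cast_smul_eq_nsmul K, CharP.cast_eq_zero K 3, zero_smul]
  rw [show vz X p ^ 3 = vz X p * vz X p * vz X p by rw [pow_succ, pow_two], vz_mul, vz_mul, ← vz_zero X, ← h3]
  congr 1
  rw [succ_nsmul, succ_nsmul, one_nsmul]

theorem vz_inj {p p' : K × K} (h : vz X p = vz X p') : p = p' := by
  obtain ⟨-, h1, h2⟩ := X.uu_inj (congrArg Subtype.val h)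
  exact Prod.ext h1 h2

theorem order_three_Us {u : ↥X.G1} (hu : u ∈ Us X) (h : orderOf u = 3) : ∃ p : K × K, p ≠ 0 ∧ u = vz X p := by
  classical
  have hinj : Function.Injective (fun p : {p : K × K // p ≠ 0} =>
      (⟨vz X p.1, by
        refine ⟨(mem_Us_iff X).2 ⟨0, p.1, by rw [tw_zero, one_mul]⟩, ?_⟩
        haveI := Fact.mk Nat.prime_three
        exact orderOf_eq_prime (cube_vz X _) fun e => p.2 (vz_inj X (e.trans (vz_zero X).symm))⟩ :
        {u : ↥X.G1 | u ∈ Us X ∧ orderOf u = 3})) := fun a b h =>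
    Subtype.ext (vz_inj X (congrArg Subtype.val h))
  have hcard : Nat.card {u : ↥X.G1 | u ∈ Us X ∧ orderOf u = 3} ≤ Nat.card {p : K × K // p ≠ 0} := by
    rw [card_Us_three X, Nat.card_eq_fintype_card, Fintype.card_subtype_compl, Fintype.card_subtype_eq,
      Fintype.card_prod, sq]
  obtain ⟨p, hp⟩ := (hinj.bijective_of_nat_card_le hcard).2 ⟨u, hu, h⟩
  exact ⟨p.1, p.2, (congrArg Subtype.val hp).symm⟩

theorem card_cent_conj (x g : ↥X.G1) :
    Nat.card (Subgroup.centralizer ({x⁻¹ * g * x} : Set ↥X.G1)) =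
      Nat.card (Subgroup.centralizer ({g} : Set ↥X.G1)) := by
  refine Nat.card_congr ((MulAut.conj x).toEquiv.subtypeEquiv fun a => ?_)
  simp only [Subgroup.mem_centralizer_singleton_iff, MulEquiv.toEquiv_eq_coe, EquivLike.coe_coe, MulAut.conj_apply]
  constructor
  · intro h
    calc x * a * x⁻¹ * g = x * (a * (x⁻¹ * g * x)) * x⁻¹ := by group
      _ = g * (x * a * x⁻¹) := by rw [h]; group
  · intro h
    calc a * (x⁻¹ * g * x) = x⁻¹ * (x * a * x⁻¹ * g) * x := by group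
      _ = x⁻¹ * g * x * a := by rw [h]; group

open Polynomial in
theorem card_cent_nine {g : ↥X.G1} (hg : orderOf g = 9) :
    Nat.card (Subgroup.centralizer ({g} : Set ↥X.G1)) ≤ 3 * X.e * Fintype.card K := by
  classical
  obtain ⟨x, hx⟩ := three_conj X (w := g) (by rw [← hg]; exact pow_orderOf_eq_one g)
  rw [← card_cent_conj X x g]
  set u := x⁻¹ * g * x with hu
  have hu9 : orderOf u = 9 := by rw [hu, orderOf_conj', hg]
  have hu1 : u ≠ 1 := fun e => by rw [e, orderOf_one] at hu9; omega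
  obtain ⟨t, ⟨u₀, v₀⟩, e⟩ := (mem_Us_iff X).1 hx
  rw [← mk_tw_vz] at e
  have ht : t ≠ 0 := by
    rintro rfl
    have h3 : orderOf u ∣ 3 := orderOf_dvd_of_pow_eq_one (by rw [e]; exact cube_vz X (u₀, v₀))
    rw [hu9] at h3
    norm_num at h3
  let P : K[X] := C t * Polynomial.X ^ (3 * X.e) - C (t ^ (3 * X.e)) * Polynomial.X
  have h3e : 1 < 3 * X.e := by have := X.e_pos; omega
  have hdeg : P.natDegree ≤ 3 * X.e := by
    refine (natDegree_sub_le _ _).trans (max_le ?_ ?_)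
    · exact natDegree_C_mul_X_pow_le _ _
    · exact (natDegree_C_mul_le _ _).trans ((natDegree_X_le).trans h3e.le)
  have hP : P ≠ 0 := by
    intro h0
    have := congrArg (fun Q : K[X] => Q.coeff (3 * X.e)) h0
    simp only [P, coeff_sub, coeff_C_mul, coeff_X_pow, if_true, mul_one, coeff_zero, coeff_X,
      if_neg (show ¬ 1 = 3 * X.e by omega), mul_zero, sub_zero] at this
    exact ht this
  have key : ∀ y : ↥X.G1, y * u = u * y →
      ∃ t' ∈ P.roots.toFinset, ∃ u' v' : K, (y : GL Cfsg.Lie.chevG2.Idx K) = X.uu t' u' v' ∧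
        u' = (t' ^ (3 * X.e) * t ^ 2 + t' * (u₀ - t' ^ (3 * X.e) * t) + t ^ (3 * X.e) * t' * t -
          t ^ (3 * X.e) * t' ^ 2) / t := by
    intro y hy
    obtain ⟨w, hw, s, rfl⟩ := Bs_cases X (cent_three X hx hu1 hy)
    obtain ⟨t', ⟨u', v'⟩, ew⟩ := (mem_Us_iff X).1 hw
    rw [← mk_tw_vz] at ew
    have hconj : hs X s * u * (hs X s)⁻¹ = w⁻¹ * u * w := by
      calc hs X s * u * (hs X s)⁻¹ = w⁻¹ * (w * hs X s * u) * (hs X s)⁻¹ := by group
        _ = w⁻¹ * (u * (w * hs X s)) * (hs X s)⁻¹ := by rw [hy]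
        _ = _ := by group
    have hs1 : s = 1 := by
      have h1 : w * (hs X s * u * (hs X s)⁻¹) = u * w := by rw [hconj]; group
      have h2 := congrArg Subtype.val h1
      rw [e, ew] at h2
      change X.uu t' u' v' * (X.hh s * X.uu t u₀ v₀ * (X.hh s)⁻¹) = X.uu t u₀ v₀ * X.uu t' u' v' at h2
      rw [X.hh_conj_uu] at h2
      obtain ⟨c1, ea, -⟩ := uu_mul X t' u' v' ((X.wa s : K) * t) ((X.wb s : K) * u₀) ((s : K) * v₀)
      obtain ⟨c2, eb, -⟩ := uu_mul X t u₀ v₀ t' u' v'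
      rw [ea, eb] at h2
      have h3 := (X.uu_inj h2).1
      exact X.wa_eq_one (Units.ext ((mul_eq_right₀ ht).1 (by linear_combination h3)))
    subst hs1
    rw [map_one, mul_one] at hy ⊢
    have h2 := congrArg Subtype.val hy
    rw [e, ew] at h2
    change X.uu t' u' v' * X.uu t u₀ v₀ = X.uu t u₀ v₀ * X.uu t' u' v' at h2
    obtain ⟨c1, ea, hc1⟩ := uu_mul X t' u' v' t u₀ v₀
    obtain ⟨c2, eb, hc2⟩ := uu_mul X t u₀ v₀ t' u' v'
    rw [ea, eb] at h2
    obtain ⟨-, hb, hc⟩ := X.uu_inj h2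
    refine ⟨t', ?_, u', v', by rw [ew], ?_⟩
    · rw [Multiset.mem_toFinset, mem_roots hP, IsRoot.def]
      simp only [P, eval_sub, eval_mul, eval_C, eval_pow, eval_X]
      linear_combination hb
    · rw [hc1, hc2] at hc
      field_simp
      linear_combination -hc
  choose T hT U V hy hU using key
  have hinj : Function.Injective (fun y : Subgroup.centralizer ({u} : Set ↥X.G1) =>
      ((⟨T y (Subgroup.mem_centralizer_singleton_iff.1 y.2), hT _ _⟩,
        V y (Subgroup.mem_centralizer_singleton_iff.1 y.2)) : P.roots.toFinset × K)) := by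
    intro a b h
    simp only [Prod.mk.injEq, Subtype.mk.injEq] at h
    refine Subtype.ext (Subtype.ext ?_)
    have ea := hy a (Subgroup.mem_centralizer_singleton_iff.1 a.2)
    have eb := hy b (Subgroup.mem_centralizer_singleton_iff.1 b.2)
    rw [ea, eb, hU, hU, h.1, h.2]
  refine (Nat.card_le_card_of_injective _ hinj).trans ?_
  rw [Nat.card_prod, Nat.card_eq_fintype_card, Nat.card_eq_fintype_card, Fintype.card_coe]
  exact Nat.mul_le_mul_right _ ((Multiset.toFinset_card_le _).trans ((card_roots' P).trans hdeg))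

theorem cent_vz_form {b c : K} (hp : (b, c) ≠ 0) {x : ↥X.G1} (ha : x * vz X (b, c) = vz X (b, c) * x) :
    ∃ t p s, x = tw X t * vz X p * hs X s ∧ (X.wb s : K) * b = b ∧ (s : K) * c + t * b = c := by
  have hne : vz X (b, c) ≠ 1 := fun e => hp (vz_inj X (e.trans (vz_zero X).symm))
  have hmem : vz X (b, c) ∈ Us X := (mem_Us_iff X).2 ⟨0, (b, c), by rw [tw_zero, one_mul]⟩
  obtain ⟨w, hw, s, rfl⟩ := Bs_cases X (cent_three X hmem hne ha)
  obtain ⟨t, p, rfl⟩ := (mem_Us_iff X).1 hw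
  refine ⟨t, p, s, rfl, ?_⟩
  have e1 : hs X s * vz X (b, c) = vz X ((X.wb s : K) * b, (s : K) * c) * hs X s := by
    rw [← hs_vz X s (b, c)]; group
  have e2 : tw X t * vz X p * vz X ((X.wb s : K) * b, (s : K) * c) =
      vz X ((X.wb s : K) * b, (s : K) * c + t * ((X.wb s : K) * b)) * (tw X t * vz X p) := by
    rw [mul_assoc, vz_mul, add_comm, ← vz_mul, ← mul_assoc, ← mul_assoc, vz_tw]
    simp
  rw [mul_assoc, e1, ← mul_assoc, e2, ← mul_assoc (vz X (b, c)), mul_left_inj, mul_left_inj] at ha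
  obtain ⟨h1, h2⟩ := Prod.mk.injEq .. ▸ vz_inj X ha
  rw [h1] at h2
  exact ⟨h1, h2⟩

theorem card_cent_z {c : K} (hc : c ≠ 0) :
    Nat.card (Subgroup.centralizer ({vz X (0, c)} : Set ↥X.G1)) ≤ Fintype.card K ^ 3 := by
  rw [← card_Us X]
  refine Subgroup.card_le_of_le fun x hx => ?_
  obtain ⟨t, p, s, rfl, -, h⟩ := cent_vz_form X (b := 0) (fun e => hc (congrArg Prod.snd e))
    (Subgroup.mem_centralizer_singleton_iff.1 hx)
  rw [show s = 1 from Units.ext ((mul_eq_right₀ hc).1 (by linear_combination h)), map_one, mul_one]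
  exact (mem_Us_iff X).2 ⟨_, _, rfl⟩

theorem card_cent_six {g : ↥X.G1} (hg : orderOf g = 6) :
    Nat.card (Subgroup.centralizer ({g} : Set ↥X.G1)) ≤ 2 * Fintype.card K := by
  classical
  have h4 : orderOf (g ^ 4) = 3 := by rw [orderOf_pow, hg]; rfl
  obtain ⟨x, hx⟩ := three_conj X (w := g ^ 4)
    (by rw [show (9 : ℕ) = 3 * 3 from rfl, pow_mul, ← h4, pow_orderOf_eq_one, one_pow])
  rw [← card_cent_conj X x g]
  set y := x⁻¹ * g * x with hy
  have hy6 : orderOf y = 6 := by rw [hy, orderOf_conj', hg]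
  have hy4 : y ^ 4 = x⁻¹ * g ^ 4 * x := by
    rw [hy]; simpa using (map_pow (MulAut.conj x⁻¹) g 4).symm
  rw [← hy4] at hx
  have hy43 : orderOf (y ^ 4) = 3 := by rw [orderOf_pow, hy6]; rfl
  obtain ⟨⟨b, c⟩, hp, e4⟩ := order_three_Us X hx hy43
  have hB : ∀ a ∈ Subgroup.centralizer ({y} : Set ↥X.G1), a * y ^ 4 = y ^ 4 * a := fun a ha =>
    (Commute.pow_right (Subgroup.mem_centralizer_singleton_iff.1 ha) 4).eq
  have key : ∀ a : ↥X.G1, a * y ^ 4 = y ^ 4 * a → ∃ t p s, a = tw X t * vz X p * hs X s ∧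
      (X.wb s : K) * b = b ∧ (s : K) * c + t * b = c := fun a ha => by
    rw [e4] at ha
    exact cent_vz_form X hp ha
  obtain ⟨t₀, p₀, s₀, e₀, hb₀, hc₀⟩ := key (y ^ 3) (((Commute.refl y).pow_pow 3 4).eq)
  have hy3 : orderOf (y ^ 3) = 2 := by rw [orderOf_pow, hy6]; rfl
  have hs₀ : s₀ ≠ 1 := by
    rintro rfl
    rw [map_one, mul_one] at e₀
    have hmem : y ^ 3 ∈ Us X := (mem_Us_iff X).2 ⟨_, _, e₀⟩
    have := orderOf_dvd_of_pow_eq_one (pow_nine X hmem)
    rw [hy3] at this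
    omega
  have hb : b ≠ 0 := by
    rintro rfl
    have hc : c ≠ 0 := fun hc => hp (by rw [hc]; rfl)
    exact hs₀ (Units.ext ((mul_eq_right₀ hc).1 (by linear_combination hc₀)))
  have hsq : ∀ {s : Kˣ}, (X.wb s : K) * b = b → s = 1 ∨ s = -1 := fun {s} h => by
    have h2 := X.wb_eq_one (Units.ext ((mul_eq_right₀ hb).1 h))
    rcases sq_eq_one_iff.1 (show (s : K) ^ 2 = 1 by rw [← Units.val_pow_eq_pow_val, h2, Units.val_one]) with h | h
    · exact Or.inl (Units.ext h)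
    · exact Or.inr (Units.ext (by simpa using h))
  have hs₀' : s₀ = -1 := (hsq hb₀).resolve_left hs₀
  choose T P S ha hSb hSc using fun a : Subgroup.centralizer ({y} : Set ↥X.G1) => key a (hB a a.2)
  have hinj : Function.Injective (fun a => ((decide (S a = 1), (P a).1) : Bool × K)) := by
    intro a a' h
    obtain ⟨hS', hp1⟩ := Prod.mk.injEq .. ▸ h
    have hSS : S a = S a' := by
      rw [decide_eq_decide] at hS'
      rcases hsq (hSb a) with h1 | h1 <;> rcases hsq (hSb a') with h2 | h2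
      · rw [h1, h2]
      · exact (hS'.1 h1).symm ▸ h1
      · exact (hS'.2 h2).symm ▸ h2.symm
      · rw [h1, h2]
    have hTT : T a = T a' := mul_right_cancel₀ hb (by
      have e1 := hSc a
      rw [hSS] at e1
      linear_combination e1 - hSc a')
    refine Subtype.ext ?_
    suffices hP' : P a = P a' by rw [ha a, ha a', hSS, hTT, hP']
    refine Prod.ext hp1 ?_
    set d := (P a).2 - (P a').2 with hd
    have hz : (a : ↥X.G1) * (a' : ↥X.G1)⁻¹ = tw X (T a') * vz X (0, d) * (tw X (T a'))⁻¹ := by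
      rw [ha a, ha a', hSS, hTT,
        show vz X (P a) = vz X (0, d) * vz X (P a') by
          rw [vz_mul]; exact congrArg (vz X) (Prod.ext (by simp [hp1]) (by simp [hd]))]
      group
    have hz' : tw X (T a') * vz X (0, d) * (tw X (T a'))⁻¹ = vz X (0, d) := by
      have h := vz_tw X (T a') (0, d)
      simp only [mul_zero, sub_zero] at h
      rw [← h]; group
    have hcomm : vz X (0, d) * y ^ 3 = y ^ 3 * vz X (0, d) := by
      rw [← hz', ← hz]
      exact (Commute.pow_right (Subgroup.mem_centralizer_singleton_iff.1 (mul_mem a.2 (inv_mem a'.2))) 3).eq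
    rw [e₀, hs₀'] at hcomm
    have e1 : hs X (-1) * vz X (0, d) = vz X (0, -d) * hs X (-1) := by
      have := hs_vz X (-1) (0, d)
      simp only [mul_zero, Units.val_neg, Units.val_one, neg_mul, one_mul] at this
      rw [← this]; group
    rw [show tw X t₀ * vz X p₀ * hs X (-1) * vz X (0, d) = tw X t₀ * vz X p₀ * vz X (0, -d) * hs X (-1) by
        rw [mul_assoc (tw X t₀ * vz X p₀), e1, ← mul_assoc],
      show vz X (0, d) * (tw X t₀ * vz X p₀ * hs X (-1)) = tw X t₀ * vz X p₀ * vz X (0, d) * hs X (-1) by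
        rw [← mul_assoc, ← mul_assoc, vz_tw, mul_assoc (tw X t₀) _ (vz X p₀), mul_assoc (tw X t₀) (vz X p₀),
          vz_mul, vz_mul, add_comm]
        simp,
      mul_left_inj, mul_right_inj] at hcomm
    have h2 : d = -d := congrArg Prod.snd (vz_inj X hcomm)
    have := Cfsg.Lib.Chev.Ree.charP_three X.hK
    have h30 : ((3 : ℕ) : K) = 0 := CharP.cast_eq_zero K 3
    push_cast at h30
    have : d = 0 := by linear_combination (-1 : K) * h2 + d * h30
    exact sub_eq_zero.1 this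
  refine (Nat.card_le_card_of_injective _ hinj).trans ?_
  rw [Nat.card_prod, Nat.card_eq_fintype_card, Nat.card_eq_fintype_card, Fintype.card_bool]

/-- An involution acting on an abelian subgroup without fixed points inverts it. -/
theorem inverts {G : Type*} [Group G] {Y : Subgroup G} (hY : ∀ a ∈ Y, ∀ b ∈ Y, a * b = b * a) {t : G}
    (ht : t * t = 1) (hn : ∀ a ∈ Y, t * a * t⁻¹ ∈ Y) (hfix : ∀ a ∈ Y, t * a * t⁻¹ = a → a = 1)
    {a : G} (ha : a ∈ Y) : t * a * t⁻¹ = a⁻¹ := by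
  have htt : t⁻¹ = t := inv_eq_of_mul_eq_one_right ht
  have h := hfix _ (mul_mem ha (hn a ha)) (by
    calc t * (a * (t * a * t⁻¹)) * t⁻¹ = (t * a * t⁻¹) * (t * t * a * (t⁻¹ * t⁻¹)) := by group
      _ = (t * a * t⁻¹) * a := by rw [htt, ht, one_mul, mul_one]
      _ = _ := hY _ (hn a ha) _ ha)
  exact eq_inv_of_mul_eq_one_right h

theorem not_four_dvd (hm : 1 ≤ X.m) (g : ↥X.G1) : ¬ 4 ∣ orderOf g := by
  intro h4
  obtain ⟨k, hk, hnn, hk'⟩ := q_param X
  rcases classify X hm g with h | h | h | h | ⟨-, h⟩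
  · have := h4.trans h; omega
  · omega
  · have := h4.trans h; omega
  · have := h4.trans h; omega
  · exact not_dvd_NN X Nat.prime_two (Or.inl ⟨4 * k + 1, by omega⟩) (((dvd_mul_right 2 2).trans h4).trans h)

theorem not_mem_Bs {x : ↥X.G1} (h2 : 2 < orderOf x) (h3 : ¬ 3 ∣ orderOf x)
    (hd : orderOf x ∣ 2 * nn X ∨ orderOf x ∣ NN X) (g : ↥X.G1) : g⁻¹ * x * g ∉ X.Bs := by
  intro hmem
  have h1 := Subgroup.orderOf_dvd_natCard X.Bs hmem
  rw [orderOf_conj', card_Bs, X.hK, ← pow_mul] at h1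
  have hcop : Nat.Coprime (orderOf x) (3 ^ ((2 * X.m + 1) * 3)) :=
    Nat.Coprime.pow_right _ ((Nat.prime_three.coprime_iff_not_dvd).2 h3).symm
  have h4 := hcop.dvd_of_dvd_mul_left h1
  rw [← X.hK] at h4
  rcases hd with hd | hd
  · have hc : Nat.Coprime (orderOf x) (nn X) := Nat.Coprime.coprime_dvd_left h4 (coprime_nn_pred X).symm
    have := Nat.le_of_dvd two_pos (hc.dvd_of_dvd_mul_right hd)
    omega
  · obtain ⟨ℓ, hℓ, hℓd⟩ := Nat.exists_prime_and_dvd (show orderOf x ≠ 1 by omega)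
    exact not_dvd_NN X hℓ (Or.inl (hℓd.trans h4)) (hℓd.trans hd)

theorem cent_T0_two (hm : 1 ≤ X.m) {x : ↥X.G1} (hx : x ∈ T0 X) (h2 : 2 < orderOf x) :
    Subgroup.centralizer {x} = T0 X := by
  have hx2 : x ^ 2 ≠ 1 := fun e => by
    have := Nat.le_of_dvd two_pos (orderOf_dvd_of_pow_eq_one e)
    omega
  have hd : orderOf (x ^ 2) ∣ nn X := orderOf_dvd_of_pow_eq_one (by rw [← pow_mul, T0_pow X hx])
  refine le_antisymm ?_ fun g hg => Subgroup.mem_centralizer_singleton_iff.2 (T0_comm X hg hx)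
  rw [← cent_T0 X hm (pow_mem hx 2) hx2 hd]
  intro g hg
  rw [Subgroup.mem_centralizer_singleton_iff] at hg ⊢
  exact (Commute.pow_right hg 2).eq

/-- The three kinds of elements of order exceeding two and prime to three, up to conjugation. -/
theorem semi_cases (hm : 1 ≤ X.m) {x : ↥X.G1} (h2 : 2 < orderOf x)
    (hk : orderOf x ∣ Fintype.card K - 1 ∨ orderOf x ∣ 2 * nn X ∨ orderOf x ∣ NN X) :
    (∃ g, g⁻¹ * x * g ∈ Hs X) ∨ (∃ g, g⁻¹ * x * g ∈ T0 X) ∨
      ∃ (A : Subgroup ↥X.G1) (a : ℕ), IsTor X A a ∧ (a = lo X ∨ a = hi X) ∧ ∃ g, g⁻¹ * x * g ∈ A := by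
  rcases hk with h | h | h
  · exact Or.inl (conj_into_Hs' X h2 h)
  · exact Or.inr (Or.inl (conj_into_T0' X hm h2 h))
  · obtain ⟨A, B, hA, hB, -, hcov⟩ := exists_tori X hm
    obtain ⟨g, hg | hg⟩ := hcov x (by omega) h
    · exact Or.inr (Or.inr ⟨A, _, hA, Or.inl rfl, g, hg⟩)
    · exact Or.inr (Or.inr ⟨B, _, hB, Or.inr rfl, g, hg⟩)

theorem order_kinds (hm : 1 ≤ X.m) {x : ↥X.G1} (h2 : 2 < orderOf x) (h3 : ¬ 3 ∣ orderOf x) :
    orderOf x ∣ Fintype.card K - 1 ∨ orderOf x ∣ 2 * nn X ∨ orderOf x ∣ NN X := by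
  rcases classify X hm x with h | h | h | h | ⟨-, h⟩
  · exfalso
    have hle := Nat.le_of_dvd (by norm_num) h
    interval_cases h' : orderOf x <;> omega
  · exact absurd (h ▸ (by norm_num : 3 ∣ 9)) h3
  · exact Or.inl h
  · exact Or.inr (Or.inl h)
  · exact Or.inr (Or.inr h)

theorem isConj_inv_of {G : Type*} [Group G] {x g t : G} (h : t * (g⁻¹ * x * g) * t⁻¹ = (g⁻¹ * x * g)⁻¹) :
    IsConj x x⁻¹ := by
  refine isConj_iff.2 ⟨g * t * g⁻¹, ?_⟩
  calc g * t * g⁻¹ * x * (g * t * g⁻¹)⁻¹ = g * (t * (g⁻¹ * x * g) * t⁻¹) * g⁻¹ := by group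
    _ = x⁻¹ := by rw [h]; group

theorem real_Hs {x g : ↥X.G1} (hg : g⁻¹ * x * g ∈ Hs X) : IsConj x x⁻¹ := by
  obtain ⟨s, hs'⟩ := (mem_Hs X).1 hg
  exact isConj_inv_of (g := g) (t := X.sn) (by rw [← hs', sn_inv, map_inv])

theorem real_T0 (hm : 1 ≤ X.m) {x g : ↥X.G1} (hg : g⁻¹ * x * g ∈ T0 X) : IsConj x x⁻¹ := by
  classical
  set C : Subgroup ↥X.G1 := Subgroup.centralizer {hv X} ⊓ Subgroup.centralizer {w0 X} with hC
  have hle : T0 X ≤ C := le_inf (T0_le X) fun y hy =>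
    Subgroup.mem_centralizer_singleton_iff.2 (T0_comm X hy (w0_mem_T0 X))
  have hidx : ((T0 X).subgroupOf C).index = 2 := by
    have h := Subgroup.card_mul_index ((T0 X).subgroupOf C)
    rw [Nat.card_congr (Subgroup.subgroupOfEquivOfLe hle).toEquiv, card_T0, hC, card_CV] at h
    exact Nat.eq_of_mul_eq_mul_left (Nat.succ_pos _) (h.trans (mul_comm _ _))
  have hne : ∃ t ∈ C, t ∉ T0 X := by
    by_contra h
    push Not at h
    have : (T0 X).subgroupOf C = ⊤ := (Subgroup.eq_top_iff' _).2 fun c => Subgroup.mem_subgroupOf.2 (h c c.2)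
    rw [this, Subgroup.index_top] at hidx
    omega
  obtain ⟨t₁, ht₁, ht₁'⟩ := hne
  have hsq : ∀ y ∈ C, y * y ∈ T0 X := fun y hy =>
    Subgroup.mem_subgroupOf.1 (Subgroup.mul_self_mem_of_index_two hidx ⟨y, hy⟩)
  have hnorm : ∀ y ∈ C, ∀ z ∈ T0 X, y * z * y⁻¹ ∈ T0 X := fun y hy z hz => by
    haveI := Subgroup.normal_of_index_eq_two hidx
    exact Subgroup.mem_subgroupOf.1
      (Subgroup.Normal.conj_mem ‹_› (⟨z, hle hz⟩ : C) (Subgroup.mem_subgroupOf.2 hz) ⟨y, hy⟩)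
  obtain ⟨a, j, hj, hord⟩ := Nat.exists_eq_two_pow_mul_odd (orderOf_pos t₁).ne'
  set t := t₁ ^ j with ht
  have htC : t ∈ C := pow_mem ht₁ j
  have htT : t ∉ T0 X := by
    intro h
    obtain ⟨i, rfl⟩ := hj
    refine ht₁' ((Subgroup.mul_mem_cancel_left _ (pow_mem (hsq t₁ ht₁) i)).1 ?_)
    rwa [← pow_two, ← pow_mul, ← pow_succ]
  have htt : t * t = 1 := by
    have h1 : orderOf t ∣ 2 ^ a := orderOf_dvd_of_pow_eq_one (by
      rw [ht, ← pow_mul, mul_comm, ← hord, pow_orderOf_eq_one])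
    obtain ⟨i, -, hi⟩ := (Nat.dvd_prime_pow Nat.prime_two).1 h1
    have h4 := not_four_dvd X hm t
    have hi1 : i ≤ 1 := by
      by_contra h
      exact h4 (hi ▸ (pow_dvd_pow 2 (show 2 ≤ i by omega) : 2 ^ 2 ∣ 2 ^ i))
    rw [← pow_two]
    exact orderOf_dvd_iff_pow_eq_one.1 (hi ▸ (pow_dvd_pow 2 hi1 : 2 ^ i ∣ 2 ^ 1))
  have hDn : ∀ z ∈ Dn X, t * z * t⁻¹ ∈ Dn X := fun z hz => by
    refine mem_Dn X (hnorm t htC z (Dn_le X hz)) ?_
    rw [show t * z * t⁻¹ = MulAut.conj t z from rfl, MulEquiv.orderOf_eq, ← card_Dn X]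
    exact Subgroup.orderOf_dvd_natCard _ hz
  have hfix : ∀ z ∈ Dn X, t * z * t⁻¹ = z → z = 1 := fun z hz h => by
    by_contra hz1
    refine htT ?_
    rw [← cent_T0 X hm (Dn_le X hz) hz1 (card_Dn X ▸ Subgroup.orderOf_dvd_natCard _ hz),
      Subgroup.mem_centralizer_singleton_iff]
    exact mul_inv_eq_iff_eq_mul.1 h
  set z := g⁻¹ * x * g with hz
  have hz2 : z ^ 2 ∈ Dn X :=
    mem_Dn X (pow_mem hg 2) (orderOf_dvd_of_pow_eq_one (by rw [← pow_mul, T0_pow X hg]))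
  have hinv := inverts (Y := Dn X) (fun a ha b hb => T0_comm X (Dn_le X ha) (Dn_le X hb)) htt hDn hfix hz2
  obtain ⟨i, hi⟩ := (nn_spec X).2.1
  have hv2 : (z ^ nn X) * (z ^ nn X) = 1 := by rw [← pow_add, ← two_mul, T0_pow X hg]
  have hvfix : t * z ^ nn X * t⁻¹ = z ^ nn X := by
    obtain ⟨hc1, hc2⟩ := Subgroup.mem_inf.1 htC
    rw [Subgroup.mem_centralizer_singleton_iff] at hc1 hc2
    rw [mul_inv_eq_iff_eq_mul]
    rcases eq_or_ne (z ^ nn X) 1 with h1 | h1
    · rw [h1, mul_one, one_mul]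
    rcases mem_V3 X (pow_mem hg _) hv2 h1 with h | h | h
    · rw [h]; exact hc1
    · rw [h]; exact hc2
    · rw [h]; exact (Commute.mul_right hc1 hc2).eq
  have hz' : z = z ^ nn X * ((z ^ 2) ^ i)⁻¹ := by
    rw [← pow_mul, hi, pow_succ', mul_inv_cancel_right]
  refine isConj_inv_of (g := g) (t := t) ?_
  rw [← hz]
  conv_lhs => rw [hz']
  rw [show t * (z ^ nn X * ((z ^ 2) ^ i)⁻¹) * t⁻¹ = t * z ^ nn X * t⁻¹ * ((t * z ^ 2 * t⁻¹) ^ i)⁻¹ by
      rw [conj_pow]; group, hvfix, hinv, inv_pow, inv_inv]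
  rw [eq_inv_iff_mul_eq_one, ← pow_mul, ← pow_add, ← pow_succ]
  rw [show nn X + 2 * i + 1 = 2 * nn X by omega, T0_pow X hg]

theorem real_tor {A : Subgroup ↥X.G1} {a : ℕ} (hA : IsTor X A a) (ha : Odd a) {x g : ↥X.G1}
    (hg : g⁻¹ * x * g ∈ A) : IsConj x x⁻¹ := by
  haveI := Fact.mk Nat.prime_two
  obtain ⟨⟨t, htN⟩, ht⟩ := exists_prime_orderOf_dvd_card' (G := ↥(Subgroup.normalizer (A : Set ↥X.G1))) 2
    (by rw [hA.norm]; exact Dvd.intro (3 * a) (by ring))
  rw [← Subgroup.orderOf_coe] at ht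
  refine isConj_inv_of (g := g) (t := t) (inverts (Y := A) ?_ ?_ ?_ ?_ hg)
  · intro y hy z hz
    haveI := hA.cyc
    haveI := IsCyclic.isMulCommutative (α := A)
    exact congrArg Subtype.val (IsMulCommutative.is_comm.comm (⟨y, hy⟩ : A) ⟨z, hz⟩)
  · rw [← pow_two, ← ht]; exact pow_orderOf_eq_one t
  · exact fun y hy => (Subgroup.mem_normalizer_iff.1 htN y).1 hy
  · intro y hy h
    by_contra hy1
    have htA : t ∈ A := by
      rw [← hA.cent y hy hy1, Subgroup.mem_centralizer_singleton_iff]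
      exact mul_inv_eq_iff_eq_mul.1 h
    have := Subgroup.orderOf_dvd_natCard A htA
    rw [ht, hA.card] at this
    exact (Nat.not_even_iff_odd.2 ha) (even_iff_two_dvd.2 this)

end Cfsg.Lib.ReeCover
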