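import Cfsg.Agent.Chev.GTwoOdd.ReeS.MinDegree
import Cfsg.Agent.Chev.GTwoOdd.ReeS.Pairings
import Cfsg.Agent.Chev.GTwoOdd.ReeS.TwoGen
import Cfsg.Agent.Chars.Count

/-!
# Traces of the unipotent elements of exponent three in a representation of a small Ree group

In terms of the two multiplicities `n` (fixed space of the centre of the unipotent radical) and `k`.
-/

set_option autoImplicit false
set_option linter.dupNamespace false
set_option linter.unusedSectionVars false

open Cfsg.Lie Finset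
open scoped ComplexConjugate

namespace Cfsg.Lib.ReeCover

open Cfsg.Lib.Chev
open Cfsg.Lib.Chev.Ree (Ree SG)
open Cfsg.Lib.GTwoOdd.ReeInv (hv iota)
open Cfsg.Lib.ReeStruct

variable {K : Type*} [Field K] [Fintype K] (X : Ree K)
variable {V : Type*} [AddCommGroup V] [Module ℂ V] [FiniteDimensional ℂ V] (φ : ↥X.G1 →* Module.End ℂ V)

/-- The dimension of the fixed space of the centre of the unipotent radical. -/
noncomputable def nz : ℕ := ∑ b : K, dd X φ (b, 0)

/-- The multiplicity of each character non-trivial on the centre. -/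
noncomputable def kz : ℕ := dd X φ (0, 1)

theorem finrank_eq : Module.finrank ℂ V =
    nz X φ + Fintype.card K * (Fintype.card K - 1) * kz X φ := by
  classical
  rw [total X φ, Fintype.sum_prod_type, Finset.sum_congr rfl fun b _ =>
    (Finset.add_sum_erase Finset.univ (fun w => dd X φ (b, w)) (Finset.mem_univ (0 : K))).symm,
    Finset.sum_add_distrib]
  congr 1
  rw [Finset.sum_congr rfl fun b _ => Finset.sum_congr rfl fun w hw => dd_const X φ b w (Finset.mem_erase.1 hw).1]
  simp [Finset.card_univ, mul_assoc, kz]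

theorem trace_vz (p : K × K) : LinearMap.trace ℂ V (φ (vz X p)) =
    ∑ w : K × K, psi K (-(w.1 * p.1 + w.2 * p.2)) * (dd X φ w : ℂ) := by
  classical
  conv_lhs => rw [← mul_one (φ (vz X p)), ← sum_proj X φ, Finset.mul_sum, map_sum]
  exact Finset.sum_congr rfl fun w _ => by rw [vz_proj, map_smul, trace_proj, smul_eq_mul]

theorem sum_psi_one [DecidableEq K] (a : K) :
    ∑ x : K, psi K (x * a) = if a = 0 then (Fintype.card K : ℂ) else 0 := by
  unfold psi
  rw [AddChar.sum_mulShift _ (AddChar.FiniteField.primitiveChar_to_Complex_isPrimitive K)]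
  split_ifs <;> simp

theorem trace_z {c : K} (hc : c ≠ 0) : LinearMap.trace ℂ V (φ (vz X (0, c))) =
    (nz X φ : ℂ) - (Fintype.card K : ℂ) * kz X φ := by
  classical
  rw [trace_vz, Fintype.sum_prod_type]
  simp only [mul_zero, zero_add]
  have h1 : ∀ b : K, ∑ w : K, psi K (-(w * c)) * (dd X φ (b, w) : ℂ) =
      (dd X φ (b, 0) : ℂ) - kz X φ := by
    intro b
    rw [← Finset.add_sum_erase Finset.univ _ (Finset.mem_univ (0 : K)),
      Finset.sum_congr rfl (g := fun w => psi K (w * -c) * (kz X φ : ℂ)) fun w hw => by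
        rw [dd_const X φ b w (Finset.mem_erase.1 hw).1, mul_neg]; rfl,
      ← Finset.sum_mul, Finset.sum_erase_eq_sub (Finset.mem_univ _), sum_psi_one, if_neg (neg_ne_zero.2 hc)]
    simp [sub_eq_add_neg]
  rw [Finset.sum_congr rfl fun b _ => h1 b, Finset.sum_sub_distrib, Finset.sum_const, Finset.card_univ, nsmul_eq_mul,
    nz]
  push_cast
  rfl

theorem sum_trace_b : ∑ b : K, LinearMap.trace ℂ V (φ (vz X (b, 0))) =
    (Fintype.card K : ℂ) * (dd X φ (0, 0) + ((Fintype.card K : ℂ) - 1) * kz X φ) := by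
  classical
  simp only [trace_vz, mul_zero, add_zero]
  rw [Finset.sum_comm, Fintype.sum_prod_type]
  have h1 : ∀ x : K, ∑ w : K, ∑ b : K, psi K (-(x * b)) * (dd X φ (x, w) : ℂ) =
      if x = 0 then (Fintype.card K : ℂ) * ∑ w : K, (dd X φ (x, w) : ℂ) else 0 := by
    intro x
    have : ∀ w, ∑ b : K, psi K (-(x * b)) * (dd X φ (x, w) : ℂ) =
        (if x = 0 then (Fintype.card K : ℂ) else 0) * (dd X φ (x, w) : ℂ) := fun w => by
      rw [← Finset.sum_mul]
      congr 1
      simp only [show ∀ b : K, -(x * b) = b * -x from fun b => by ring, sum_psi_one, neg_eq_zero]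
    rw [Finset.sum_congr rfl fun w _ => this w, ← Finset.mul_sum]
    split_ifs <;> simp
  rw [Finset.sum_congr rfl fun x _ => h1 x, Finset.sum_ite_eq', if_pos (Finset.mem_univ _),
    ← Finset.add_sum_erase Finset.univ _ (Finset.mem_univ (0 : K)),
    Finset.sum_congr rfl (g := fun _ => (kz X φ : ℂ)) fun w hw => by
      rw [dd_const X φ 0 w (Finset.mem_erase.1 hw).1]; rfl,
    Finset.sum_const, Finset.card_erase_of_mem (Finset.mem_univ _), Finset.card_univ, nsmul_eq_mul,
    Nat.cast_sub Fintype.card_pos, Nat.cast_one]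

theorem trace_vz_shift (b c : K) (hb : b ≠ 0) :
    LinearMap.trace ℂ V (φ (vz X (b, c))) = LinearMap.trace ℂ V (φ (vz X (b, 0))) := by
  have h : vz X (b, c) * tw X (c / b) = tw X (c / b) * vz X (b, 0) := by
    rw [vz_tw]
    simp [div_mul_cancel₀ _ hb]
  rw [show vz X (b, c) = tw X (c / b) * vz X (b, 0) * (tw X (c / b))⁻¹ by rw [← h]; group, map_mul φ, map_mul φ,
    trace_conj]

theorem trace_vz_scale (s : Kˣ) (b : K) :
    LinearMap.trace ℂ V (φ (vz X ((X.wb s : K) * b, 0))) = LinearMap.trace ℂ V (φ (vz X (b, 0))) := by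
  have h := hs_vz X s (b, 0)
  simp only [mul_zero] at h
  rw [← h, map_mul φ, map_mul φ, trace_conj]

theorem re_trace_vz_neg (b : K) : (LinearMap.trace ℂ V (φ (vz X (-b, 0)))).re =
    (LinearMap.trace ℂ V (φ (vz X (b, 0)))).re := by
  rw [trace_vz, trace_vz, Complex.re_sum, Complex.re_sum]
  refine Finset.sum_congr rfl fun w _ => ?_
  simp only [mul_zero, add_zero, mul_neg, neg_neg]
  rw [AddChar.map_neg_eq_conj]
  simp [Complex.mul_re]

theorem re_trace_const {b : K} (hb : b ≠ 0) : (LinearMap.trace ℂ V (φ (vz X (b, 0)))).re =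
    (LinearMap.trace ℂ V (φ (vz X (1, 0)))).re := by
  obtain ⟨s, h | h⟩ := wb_cover X (Units.mk0 b hb)
  · rw [← trace_vz_scale X φ s 1, mul_one, h, Units.val_mk0]
  · rw [← trace_vz_scale X φ s 1, mul_one, h, Units.val_neg, Units.val_mk0, re_trace_vz_neg]

/-- The real part of the trace of an element of order three outside the centre of the unipotent radical. -/
theorem re_trace_t {b : K} (hb : b ≠ 0) (c : K) :
    -(nz X φ : ℝ) ≤ ((Fintype.card K : ℝ) - 1) * (LinearMap.trace ℂ V (φ (vz X (b, c)))).re := by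
  classical
  rw [trace_vz_shift X φ b c hb, re_trace_const X φ hb]
  have h0 := congrArg Complex.re (sum_trace_b X φ)
  rw [Complex.re_sum, ← Finset.add_sum_erase Finset.univ _ (Finset.mem_univ (0 : K)),
    Finset.sum_congr rfl fun x hx => re_trace_const X φ (Finset.mem_erase.1 hx).1, Finset.sum_const,
    Finset.card_erase_of_mem (Finset.mem_univ _), Finset.card_univ, nsmul_eq_mul,
    Nat.cast_sub Fintype.card_pos, Nat.cast_one,
    show ((0 : K), (0 : K)) = (0 : K × K) from rfl, vz_zero, map_one, LinearMap.trace_one] at h0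
  simp only [Complex.natCast_re, Complex.mul_re, Complex.add_re, Complex.add_im, Complex.natCast_im, Complex.sub_re,
    Complex.sub_im, Complex.one_re, Complex.one_im, mul_zero, zero_mul, sub_zero, sub_self] at h0
  rw [finrank_eq X φ, Nat.cast_add, Nat.cast_mul, Nat.cast_mul, Nat.cast_sub Fintype.card_pos, Nat.cast_one] at h0
  have h1 : (0 : ℝ) ≤ (Fintype.card K : ℝ) * (dd X φ ((0 : K), (0 : K)) : ℝ) := by positivity
  simp only [show ((0 : K), (0 : K)) = (0 : K × K) from rfl] at h1
  linarith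

theorem dd_pair (b : K) (s : Kˣ) : dd X φ ((X.wb s : K) * b, 0) = dd X φ (b, 0) := by
  have := dd_scale X φ b 0 s
  rwa [mul_zero] at this

/-- Twice the dimension is a multiple of `q - 1` apart from the fixed points of the unipotent radical. -/
theorem two_nz : 2 * nz X φ = 2 * dd X φ (0, 0) +
    (Fintype.card K - 1) * (dd X φ (1, 0) + dd X φ (-1, 0)) := by
  classical
  unfold nz
  rw [← Finset.add_sum_erase Finset.univ _ (Finset.mem_univ (0 : K)), mul_add]
  congr 1
  have h1 : ∑ b ∈ Finset.univ.erase (0 : K), dd X φ (-b, 0) = ∑ b ∈ Finset.univ.erase (0 : K), dd X φ (b, 0) :=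
    Finset.sum_nbij' Neg.neg Neg.neg (fun b hb => by simpa using hb) (fun b hb => by simpa using hb)
      (fun b _ => neg_neg b) (fun b _ => neg_neg b) fun b _ => rfl
  rw [two_mul]
  nth_rw 2 [← h1]
  rw [← Finset.sum_add_distrib, Finset.sum_congr rfl (g := fun _ => dd X φ (1, 0) + dd X φ (-1, 0)), Finset.sum_const,
    Finset.card_erase_of_mem (Finset.mem_univ _), Finset.card_univ, smul_eq_mul]
  intro b hb
  obtain ⟨s, h | h⟩ := wb_cover X (Units.mk0 b (Finset.mem_erase.1 hb).1)
  · have e1 := dd_pair X φ 1 s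
    have e2 := dd_pair X φ (-1) s
    rw [h, Units.val_mk0, mul_one] at e1
    rw [h, Units.val_mk0, mul_neg, mul_one] at e2
    rw [e1, e2]
  · have e1 := dd_pair X φ 1 s
    have e2 := dd_pair X φ (-1) s
    rw [h, Units.val_neg, Units.val_mk0, mul_one] at e1
    rw [h, Units.val_neg, Units.val_mk0, mul_neg, mul_one, neg_neg] at e2
    rw [e1, e2, add_comm]

theorem tw_zero : tw X 0 = 1 := Subtype.ext X.uu_zero_eq_one

theorem conj_proj_zero_tw (t : K) : φ (tw X t) * proj X φ 0 * φ (tw X t)⁻¹ = proj X φ 0 := by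
  refine conj_proj X φ _
    ⟨fun p => (p.1, p.2 + t * p.1), fun p => (p.1, p.2 - t * p.1), fun p => by simp, fun p => by simp⟩
    (fun p => ?_) _ _ (fun p => by simp)
  rw [mul_inv_eq_iff_eq_mul]
  show _ = vz X (p.1, p.2 + t * p.1) * tw X t
  rw [vz_tw]
  simp

theorem conj_proj_zero_hs (s : Kˣ) : φ (hs X s) * proj X φ 0 * φ (hs X s)⁻¹ = proj X φ 0 :=
  conj_proj X φ _ (Equiv.prodCongr (Equiv.mulLeft₀ (X.wb s : K) (Units.ne_zero _))
    (Equiv.mulLeft₀ (s : K) (Units.ne_zero _))) (fun p => hs_vz X s p) _ _ (fun p => by simp)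

theorem trace_tw_scale (s : Kˣ) (t : K) :
    LinearMap.trace ℂ V (φ (tw X ((X.wa s : K) * t)) * proj X φ 0) =
      LinearMap.trace ℂ V (φ (tw X t) * proj X φ 0) := by
  have e : hs X s * tw X t * (hs X s)⁻¹ = tw X ((X.wa s : K) * t) := by
    refine Subtype.ext ?_
    show X.hh s * X.uu t 0 0 * (X.hh s)⁻¹ = _
    rw [X.hh_conj_uu, mul_zero, mul_zero]
    rfl
  nth_rw 1 [← e, ← conj_proj_zero_hs X φ s]
  rw [map_mul φ, map_mul φ, show φ (hs X s) * φ (tw X t) * φ (hs X s)⁻¹ *
      (φ (hs X s) * proj X φ 0 * φ (hs X s)⁻¹) =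
      φ (hs X s) * (φ (tw X t) * (φ (hs X s)⁻¹ * φ (hs X s)) * proj X φ 0) * φ (hs X s)⁻¹ by
    simp only [mul_assoc], ← map_mul φ, inv_mul_cancel, map_one, mul_one, trace_conj]

theorem isIntegral_trace_tw : IsIntegral ℤ (LinearMap.trace ℂ V (φ (tw X 1) * proj X φ 0)) := by
  classical
  have hc : φ (tw X 1) * proj X φ 0 = proj X φ 0 * φ (tw X 1) := by
    have h := congrArg (· * φ (tw X 1)) (conj_proj_zero_tw X φ 1)
    simp only [mul_assoc, ← map_mul, inv_mul_cancel, map_one, mul_one] at h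
    exact h
  let C : Subgroup ↥X.G1 := Subgroup.zpowers (tw X 1)
  have hcC : ∀ g : C, φ g * proj X φ 0 = proj X φ 0 * φ g := by
    rintro ⟨g, hg⟩
    obtain ⟨i, rfl⟩ := mem_powers_iff_mem_zpowers.2 hg
    show φ (tw X 1 ^ i) * _ = _ * φ (tw X 1 ^ i)
    rw [map_pow]
    exact ((show Commute (φ (tw X 1)) (proj X φ 0) from hc).pow_left i).eq
  set W := LinearMap.range (proj X φ 0) with hW
  have hinv : ∀ g : C, ∀ v ∈ W, φ g v ∈ W := by
    rintro g v ⟨u, rfl⟩
    exact ⟨φ g u, (LinearMap.congr_fun (hcC g) u).symm⟩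
  let ρ : Representation ℂ C W :=
    { toFun := fun g => (φ g).restrict (hinv g)
      map_one' := by ext v; simp
      map_mul' := fun g h => by ext v; simp }
  have h := Cfsg.Lib.Chars.isIntegral_character ρ ⟨tw X 1, Subgroup.mem_zpowers _⟩
  have hP : ∀ v ∈ W, proj X φ 0 v = v := by
    rintro v ⟨u, rfl⟩
    have e := LinearMap.congr_fun (proj_mul X φ (0 : K × K) 0) u
    rw [if_pos rfl] at e
    exact e
  have hmaps : ∀ v, (φ (tw X 1) * proj X φ 0) v ∈ W :=
    fun v => hinv ⟨tw X 1, Subgroup.mem_zpowers _⟩ _ (LinearMap.mem_range_self _ v)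
  rw [← LinearMap.trace_restrict_eq_of_forall_mem W _ hmaps (fun v _ => hmaps v)]
  convert h using 1
  show _ = LinearMap.trace ℂ W _
  congr 1
  ext v
  simp only [LinearMap.restrict_apply, Module.End.mul_apply]
  exact congrArg (φ (tw X 1)) (hP v v.2)

/-- Without fixed points of the unipotent radical the multiplicity of the trivial character is a multiple of
`q - 1`. -/
theorem dd_zero_dvd (h : ∑ t : K, ∑ p : K × K, LinearMap.trace ℂ V (φ (tw X t * vz X p)) = 0) :
    ∃ j : ℤ, (dd X φ (0, 0) : ℤ) = ((Fintype.card K : ℤ) - 1) * j := by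
  classical
  set f : K → ℂ := fun t => LinearMap.trace ℂ V (φ (tw X t) * proj X φ 0) with hf
  have h0 : ∑ t, f t = 0 := by
    have e : ∀ t, f t = (Fintype.card (K × K) : ℂ)⁻¹ * ∑ p : K × K, LinearMap.trace ℂ V (φ (tw X t * vz X p)) := by
      intro t
      simp only [hf, proj, Prod.fst_zero, Prod.snd_zero, zero_mul, add_zero, AddChar.map_zero_eq_one, one_smul,
        mul_smul_comm, Finset.mul_sum, ← map_mul φ, map_smul, map_sum, smul_eq_mul]
    rw [Finset.sum_congr rfl fun t _ => e t, ← Finset.mul_sum, h, mul_zero]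
  have hconst : ∀ t ∈ Finset.univ.erase (0 : K), f t = f 1 := by
    intro t ht
    obtain ⟨s, hs'⟩ := wa_surj X (Units.mk0 t (Finset.mem_erase.1 ht).1)
    simp only [hf]
    rw [← trace_tw_scale X φ s 1, mul_one, hs', Units.val_mk0]
  rw [← Finset.add_sum_erase Finset.univ _ (Finset.mem_univ (0 : K)), Finset.sum_congr rfl hconst, Finset.sum_const,
    Finset.card_erase_of_mem (Finset.mem_univ _), Finset.card_univ, nsmul_eq_mul,
    Nat.cast_sub Fintype.card_pos, Nat.cast_one,
    show f 0 = (dd X φ (0, 0) : ℂ) by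
      show LinearMap.trace ℂ V (φ (tw X 0) * proj X φ 0) = _
      rw [tw_zero, map_one, one_mul]; exact trace_proj X φ 0] at h0
  have hq1 : ((Fintype.card K : ℚ) - 1) ≠ 0 := by
    have : (1 : ℚ) < Fintype.card K := by exact_mod_cast Fintype.one_lt_card
    linarith
  have hq1' : ((Fintype.card K : ℂ) - 1) ≠ 0 := by
    have e : (((Fintype.card K : ℚ) - 1 : ℚ) : ℂ) = (Fintype.card K : ℂ) - 1 := by push_cast; rfl
    rw [← e]; exact_mod_cast hq1
  obtain ⟨z, hz⟩ := Cfsg.Lib.Chars.int_of_isIntegral_rat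
    (q := -(dd X φ (0, 0) : ℚ) / ((Fintype.card K : ℚ) - 1)) (by
      convert isIntegral_trace_tw X φ using 1
      push_cast
      rw [div_eq_iff hq1']
      show _ = f 1 * _
      linear_combination -h0)
  refine ⟨-z, ?_⟩
  rw [div_eq_iff hq1] at hz
  have : ((dd X φ (0, 0) : ℤ) : ℚ) = ((((Fintype.card K : ℤ) - 1) * -z : ℤ) : ℚ) := by
    push_cast; linarith
  exact_mod_cast this

end Cfsg.Lib.ReeCover
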