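import Cfsg.Agent.Chev.GTwoOdd.ReeS.Cover.Torus
import Cfsg.Agent.S2455

/-!
# Every non-identity element of a small Ree group is a product of two conjugates of an element prime to three
-/

set_option autoImplicit false
set_option linter.dupNamespace false
set_option linter.unusedSectionVars false
set_option linter.style.haveILetI false

open Finset

namespace Cfsg.Lib.ReeCover

open Cfsg.Lib.Chars
open Cfsg.Lib.Chev
open Cfsg.Lib.Chev.Ree (Ree SG)
open Cfsg.Lib.ReeStruct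
open Cfsg.Lib.GTwoOdd.ReeInv (hv iota)

universe u
variable {K : Type u} [Field K] [Fintype K] (X : Ree K) [Fintype ↥X.G1]

theorem prod_conj {G : Type*} [Group G] {x g : G} (a b : G)
    (h : ∃ u v : G, b⁻¹ * g * b = (u * (a⁻¹ * x * a) * u⁻¹) * (v * (a⁻¹ * x * a) * v⁻¹)) :
    ∃ u v : G, g = (u * x * u⁻¹) * (v * x * v⁻¹) := by
  obtain ⟨u, v, e⟩ := h
  refine ⟨b * u * a⁻¹, b * v * a⁻¹, ?_⟩
  rw [show g = b * (b⁻¹ * g * b) * b⁻¹ by group, e]
  group

theorem q_facts (hm : 1 ≤ X.m) :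
    (Fintype.card K : ℝ) = 3 * (X.e : ℝ) ^ 2 ∧ (3 : ℝ) ≤ X.e ∧ (27 : ℝ) ≤ Fintype.card K := by
  have h1 : (Fintype.card K : ℝ) = 3 * (X.e : ℝ) ^ 2 := by exact_mod_cast q_eq X
  have h2 : (3 : ℝ) ≤ X.e := by exact_mod_cast e_three X hm
  exact ⟨h1, h2, by nlinarith⟩

theorem card_tor_le {a : ℕ} (ha : a = lo X ∨ a = hi X) :
    (a : ℝ) ≤ (Fintype.card K : ℝ) + 1 + 3 * X.e := by
  have he : (0 : ℤ) ≤ X.e := Int.natCast_nonneg _
  have : (a : ℤ) ≤ (Fintype.card K : ℤ) + 1 + 3 * X.e := by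
    rcases ha with rfl | rfl
    · rw [lo_int]; linarith
    · rw [hi_int]
  exact_mod_cast this

theorem cent_semi (hm : 1 ≤ X.m) {x : ↥X.G1} (h2 : 2 < orderOf x)
    (hk : orderOf x ∣ Fintype.card K - 1 ∨ orderOf x ∣ 2 * nn X ∨ orderOf x ∣ NN X) :
    (Nat.card (Subgroup.centralizer ({x} : Set ↥X.G1)) : ℝ) ≤ (Fintype.card K : ℝ) + 1 + 3 * X.e := by
  have he : (0 : ℝ) ≤ X.e := Nat.cast_nonneg _
  rcases semi_cases X hm h2 hk with ⟨g, hg⟩ | ⟨g, hg⟩ | ⟨A, a, hA, ha, g, hg⟩ <;> rw [← card_cent_conj X g x]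
  · obtain ⟨s, hs'⟩ := (mem_Hs X).1 hg
    have hs2 : s ^ 2 ≠ 1 := fun e => by
      have h1 : (g⁻¹ * x * g) ^ 2 = 1 := by rw [← hs', ← map_pow, e, map_one]
      have := Nat.le_of_dvd two_pos (orderOf_dvd_of_pow_eq_one h1)
      rw [orderOf_conj'] at this
      omega
    rw [← hs', cent_hs X hs2, card_Hs, Nat.cast_sub Fintype.card_pos, Nat.cast_one]
    linarith
  · rw [cent_T0_two X hm hg (by rw [orderOf_conj']; exact h2), card_T0, Nat.cast_add, Nat.cast_one]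
    linarith
  · have hne : g⁻¹ * x * g ≠ 1 := fun e => by
      have := orderOf_conj' X g x
      rw [e, orderOf_one] at this
      omega
    rw [hA.cent _ hg hne, hA.card]
    exact card_tor_le X ha

/-- Elements with small centralisers. -/
theorem prod_small (hm : 1 ≤ X.m) {x g : ↥X.G1} (hx : IsConj x x⁻¹)
    (ha : (Nat.card (Subgroup.centralizer ({x} : Set ↥X.G1)) : ℝ) ≤ (Fintype.card K : ℝ) + 1 + 3 * X.e)
    (hg : (Nat.card (Subgroup.centralizer ({g} : Set ↥X.G1)) : ℝ) ≤ 3 * X.e * Fintype.card K) :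
    ∃ u v : ↥X.G1, g = (u * x * u⁻¹) * (v * x * v⁻¹) := by
  obtain ⟨hq, he, h27⟩ := q_facts X hm
  set q : ℝ := (Fintype.card K : ℝ)
  set e : ℝ := (X.e : ℝ)
  have hb : (3 * e * q) = Real.sqrt (3 * e * q) ^ 2 := (Real.sq_sqrt (by positivity)).symm
  have hqq : 0 < q * (q - 1) := mul_pos (by linarith) (by linarith)
  refine exists_prod_of_small hx hqq (Real.sqrt_nonneg _) (fun χ hχ => deg_min X hm hχ) ha (hb ▸ hg) ?_
  have h1 : (q + 1 + 3 * e) ^ 2 * (3 * e * q) < (q * (q - 1)) ^ 2 := by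
    have h2 : q + 1 + 3 * e ≤ 2 * q := by nlinarith
    have h3 : (q + 1 + 3 * e) ^ 2 ≤ (q + 1 + 3 * e) * (2 * q) := by
      rw [sq]; exact mul_le_mul_of_nonneg_left h2 (by linarith)
    have h4 : (q + 1 + 3 * e) * 6 * e < (q - 1) ^ 2 := by rw [hq]; nlinarith [mul_le_mul he he (by norm_num) (by linarith)]
    calc (q + 1 + 3 * e) ^ 2 * (3 * e * q) ≤ (q + 1 + 3 * e) * (2 * q) * (3 * e * q) :=
          mul_le_mul_of_nonneg_right h3 (by positivity)
      _ = (q + 1 + 3 * e) * 6 * e * q ^ 2 := by ring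
      _ < (q - 1) ^ 2 * q ^ 2 := by gcongr
      _ = _ := by ring
  have h5 : (q + 1 + 3 * e) * Real.sqrt (3 * e * q) = Real.sqrt ((q + 1 + 3 * e) ^ 2 * (3 * e * q)) := by
    rw [Real.sqrt_mul (sq_nonneg _), Real.sqrt_sq (by linarith)]
  rw [h5, Real.sqrt_lt' hqq]
  exact h1

/-- The elements of order three outside the centre of the unipotent radical. -/
theorem prod_t (hm : 1 ≤ X.m) {x : ↥X.G1} (hx : IsConj x x⁻¹)
    (ha : (Nat.card (Subgroup.centralizer ({x} : Set ↥X.G1)) : ℝ) ≤ (Fintype.card K : ℝ) + 1 + 3 * X.e)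
    {b : K} (hb : b ≠ 0) (c : K) :
    ∃ u v : ↥X.G1, vz X (b, c) = (u * x * u⁻¹) * (v * x * v⁻¹) := by
  classical
  obtain ⟨hq, he, h27⟩ := q_facts X hm
  refine exists_prod hx ?_
  rw [← Finset.add_sum_erase Finset.univ _ (Finset.mem_univ (one' _)), tm_one]
  set q : ℝ := (Fintype.card K : ℝ) with hqdef
  set r : ℝ := Real.sqrt q
  have hr : r ^ 2 = q := Real.sq_sqrt (by linarith)
  have hr5 : 5 ≤ r := by
    refine (Real.le_sqrt' (by norm_num)).2 ?_
    linarith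
  have hq1 : 0 < q - 1 := by linarith
  have hterm : ∀ χ ∈ Finset.univ.erase (one' ↥X.G1),
      -(wt x χ * ((1 + r) / (q * (q - 1)))) ≤ tm x (vz X (b, c)) χ := by
    intro χ hχ
    have hk : (1 : ℝ) ≤ kc X χ := by exact_mod_cast kc_pos X hm (Finset.mem_erase.1 hχ).1
    have hz : |(nc X χ : ℝ) - q * kc X χ| ≤ q * r := by
      refine abs_le_of_sq_le_sq ?_ (by positivity)
      rw [mul_pow, hr, ← pow_succ]
      have h1 : ‖(χ : ↥X.G1 → ℂ) (vz X (0, (1 : K)))‖ ^ 2 ≤ q ^ 3 := by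
        have h0 : ((Nat.card (Subgroup.centralizer ({vz X (0, (1 : K))} : Set ↥X.G1)) : ℕ) : ℝ) ≤ q ^ 3 := by
          rw [hqdef]
          exact_mod_cast card_cent_z X (one_ne_zero (α := K))
        rw [← sum_norm_sq_irr] at h0
        exact le_trans (Finset.single_le_sum
          (f := fun ψ : Cfsg.IrrCharacter ↥X.G1 => ‖(ψ : ↥X.G1 → ℂ) (vz X (0, (1 : K)))‖ ^ 2)
          (fun _ _ => sq_nonneg _) (Finset.mem_univ χ)) h0
      rw [val_z X χ one_ne_zero, show (nc X χ : ℂ) - (Fintype.card K : ℂ) * (kc X χ : ℂ) =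
        (((nc X χ : ℝ) - q * kc X χ : ℝ) : ℂ) by rw [hqdef]; push_cast; rfl, Complex.norm_real, Real.norm_eq_abs,
        sq_abs] at h1
      exact h1
    have hD := deg_eq_real X χ
    rw [← hqdef] at hD
    have hn : q * (nc X χ : ℝ) ≤ (1 + r) * (deg (χ : ↥X.G1 → ℂ) : ℝ) := by
      have hn1 : (nc X χ : ℝ) ≤ q * (1 + r) * kc X χ := by
        have := (abs_le.1 hz).2
        have : q * r ≤ q * r * kc X χ := le_mul_of_one_le_right (by positivity) hk
        linarith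
      have hqr : 0 ≤ q - 1 - r := by nlinarith
      rw [hD]
      nlinarith [mul_le_mul_of_nonneg_left hn1 hqr]
    have hre := re_val_t X χ hb c
    rw [← hqdef] at hre
    have hdeg := deg_pos χ
    have hw := wt_nonneg x χ
    rw [tm, le_div_iff₀ hdeg, neg_mul, neg_le, ← mul_neg]
    have h2 : -(((χ : ↥X.G1 → ℂ) (vz X (b, c))).re) ≤ (1 + r) / (q * (q - 1)) * (deg (χ : ↥X.G1 → ℂ) : ℝ) := by
      rw [div_mul_eq_mul_div, le_div_iff₀ (mul_pos (by linarith) hq1)]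
      nlinarith
    calc wt x χ * -(((χ : ↥X.G1 → ℂ) (vz X (b, c))).re)
        ≤ wt x χ * ((1 + r) / (q * (q - 1)) * (deg (χ : ↥X.G1 → ℂ) : ℝ)) := mul_le_mul_of_nonneg_left h2 hw
      _ = _ := by ring
  have h3 := Finset.sum_le_sum hterm
  rw [Finset.sum_neg_distrib, ← Finset.sum_mul] at h3
  have h4 : ∑ χ ∈ Finset.univ.erase (one' ↥X.G1), wt x χ ≤ 2 * q := by
    refine le_trans (Finset.sum_le_sum_of_subset_of_nonneg (Finset.erase_subset _ _) fun χ _ _ => wt_nonneg x χ) ?_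
    rw [sum_wt hx]
    nlinarith
  have h5 : (∑ χ ∈ Finset.univ.erase (one' ↥X.G1), wt x χ) * ((1 + r) / (q * (q - 1))) < 1 := by
    refine lt_of_le_of_lt (mul_le_mul_of_nonneg_right h4 (div_nonneg (by linarith) (mul_nonneg (by linarith) hq1.le))) ?_
    rw [mul_div_assoc', div_lt_one (mul_pos (by linarith) hq1)]
    have h6 : 2 * (1 + r) < q - 1 := by nlinarith
    nlinarith [mul_lt_mul_of_pos_left h6 (show (0 : ℝ) < q by linarith)]
  linarith

/-- The criterion for the central elements of order three. -/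
theorem prod_z {x : ↥X.G1} (hx : IsConj x x⁻¹) {c : K} (hc : c ≠ 0)
    (h : (Nat.card (Subgroup.centralizer ({x} : Set ↥X.G1)) : ℝ) <
      (Fintype.card K : ℝ) * ∑ χ : Cfsg.IrrCharacter ↥X.G1, wt x χ * nc X χ / (deg (χ : ↥X.G1 → ℂ) : ℝ)) :
    ∃ u v : ↥X.G1, vz X (0, c) = (u * x * u⁻¹) * (v * x * v⁻¹) := by
  refine exists_prod hx ?_
  set q : ℝ := (Fintype.card K : ℝ) with hq
  have hq1 : 0 < q - 1 := by
    have : (1 : ℝ) < q := by rw [hq]; exact_mod_cast Fintype.one_lt_card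
    linarith
  refine pos_of_mul_pos_right (a := q - 1) ?_ hq1.le
  rw [Finset.mul_sum, Finset.sum_congr rfl (g := fun χ => q * (wt x χ * nc X χ / (deg (χ : ↥X.G1 → ℂ) : ℝ)) - wt x χ)
    fun χ _ => by
      have hd := deg_pos χ
      rw [tm, val_z X χ hc]
      simp only [Complex.sub_re, Complex.mul_re, Complex.natCast_re, Complex.natCast_im, mul_zero, sub_zero]
      rw [← hq]
      field_simp
      rw [deg_eq_real X χ, ← hq]
      ring,
    Finset.sum_sub_distrib, ← Finset.mul_sum, sum_wt hx]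
  linarith

/-- The Steinberg character on the centre of the unipotent radical. -/
theorem st_data {st : Cfsg.IrrCharacter ↥X.G1} (hst : ∀ g, (st : ↥X.G1 → ℂ) g = pc X g - 1) :
    (nc X st : ℝ) = (Fintype.card K : ℝ) ^ 2 ∧ (deg (st : ↥X.G1 → ℂ) : ℝ) = (Fintype.card K : ℝ) ^ 3 := by
  have h1 := hst (vz X (0, (1 : K)))
  rw [val_z X st one_ne_zero, pc_unip X ((mem_Us_iff X).2 ⟨0, (0, 1), by rw [tw_zero, one_mul]⟩)
    (fun e => one_ne_zero (congrArg Prod.snd (vz_inj X (e.trans (vz_zero X).symm)))), sub_self, sub_eq_zero] at h1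
  have h2 := hst 1
  rw [pc_one, irr_apply_one_eq_deg, add_sub_cancel_right] at h2
  have hn : (nc X st : ℝ) = Fintype.card K * kc X st := by exact_mod_cast h1
  have hd : (deg (st : ↥X.G1 → ℂ) : ℝ) = (Fintype.card K : ℝ) ^ 3 := by exact_mod_cast h2
  refine ⟨?_, hd⟩
  have h3 := deg_eq_real X st
  rw [hd, hn] at h3
  rw [hn]
  have hq0 : (Fintype.card K : ℝ) ≠ 0 := by exact_mod_cast Fintype.card_ne_zero
  field_simp at h3
  linear_combination -h3

theorem st_val {st : Cfsg.IrrCharacter ↥X.G1} (hst : ∀ g, (st : ↥X.G1 → ℂ) g = pc X g - 1) {x : ↥X.G1}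
    (hoff : ∀ g : ↥X.G1, g⁻¹ * x * g ∉ X.Bs) : (st : ↥X.G1 → ℂ) x = -1 := by
  rw [hst, pc_off X hoff, zero_sub]

theorem prod_z_Hs {x g : ↥X.G1} (h2 : 2 < orderOf x) (hg : g⁻¹ * x * g ∈ Hs X)
    (hx : IsConj x x⁻¹) {c : K} (hc : c ≠ 0) :
    ∃ u v : ↥X.G1, vz X (0, c) = (u * x * u⁻¹) * (v * x * v⁻¹) := by
  classical
  refine prod_z X hx hc ?_
  rw [← Finset.add_sum_erase Finset.univ _ (Finset.mem_univ (one' _)), wt_one, deg_one]
  obtain ⟨s, hs'⟩ := (mem_Hs X).1 hg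
  have hs2 : s ^ 2 ≠ 1 := fun e => by
    have h1 : (g⁻¹ * x * g) ^ 2 = 1 := by rw [← hs', ← map_pow, e, map_one]
    have := Nat.le_of_dvd two_pos (orderOf_dvd_of_pow_eq_one h1)
    rw [orderOf_conj'] at this
    omega
  rw [← card_cent_conj X g x, ← hs', cent_hs X hs2, card_Hs, Nat.cast_sub Fintype.card_pos, Nat.cast_one]
  have hn1 : (nc X (one' ↥X.G1) : ℝ) = 1 + Fintype.card K * kc X (one' _) := by
    have h1 := val_z X (one' ↥X.G1) hc
    rw [one'_apply, eq_sub_iff_add_eq] at h1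
    exact_mod_cast h1.symm
  have hrest : 0 ≤ ∑ χ ∈ Finset.univ.erase (one' ↥X.G1), wt x χ * nc X χ / (deg (χ : ↥X.G1 → ℂ) : ℝ) :=
    Finset.sum_nonneg fun χ _ => div_nonneg (mul_nonneg (wt_nonneg _ _) (Nat.cast_nonneg _)) (deg_pos χ).le
  rw [hn1]
  have h0 : (0 : ℝ) ≤ (Fintype.card K : ℝ) * kc X (one' ↥X.G1) := by positivity
  nlinarith [mul_nonneg (Nat.cast_nonneg (Fintype.card K) : (0 : ℝ) ≤ Fintype.card K) h0,
    mul_nonneg (Nat.cast_nonneg (Fintype.card K) : (0 : ℝ) ≤ Fintype.card K) hrest]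

theorem nc_one : (nc X (one' ↥X.G1) : ℝ) = 1 := by
  have h1 := val_z X (one' ↥X.G1) (one_ne_zero (α := K))
  rw [one'_apply] at h1
  have h1' : (1 : ℝ) = (nc X (one' ↥X.G1) : ℝ) - Fintype.card K * kc X (one' _) := by
    have := congrArg Complex.re h1
    simpa using this
  have h2 := deg_eq_real X (one' ↥X.G1)
  rw [deg_one] at h2
  have hq0 : (Fintype.card K : ℝ) ≠ 0 := by exact_mod_cast Fintype.card_ne_zero
  have hk : (kc X (one' ↥X.G1) : ℝ) = 0 := by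
    have h3 : (Fintype.card K : ℝ) * (Fintype.card K : ℝ) * kc X (one' ↥X.G1) = 0 := by linear_combination h1' - h2
    exact (mul_eq_zero.1 h3).resolve_left (mul_ne_zero hq0 hq0)
  rw [hk, mul_zero, sub_zero] at h1'
  exact h1'.symm

theorem prod_z_T0 (hm : 1 ≤ X.m) {x g : ↥X.G1} (h2 : 2 < orderOf x) (h3 : ¬ 3 ∣ orderOf x)
    (hk : orderOf x ∣ 2 * nn X) (hg : g⁻¹ * x * g ∈ T0 X)
    (hx : IsConj x x⁻¹) {c : K} (hc : c ≠ 0) :
    ∃ u v : ↥X.G1, vz X (0, c) = (u * x * u⁻¹) * (v * x * v⁻¹) := by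
  classical
  obtain ⟨hq, he, h27⟩ := q_facts X hm
  refine prod_z X hx hc ?_
  rw [← card_cent_conj X g x, cent_T0_two X hm hg (by rw [orderOf_conj']; exact h2), card_T0, Nat.cast_add, Nat.cast_one]
  obtain ⟨st, hst1, hst⟩ := exists_st X
  obtain ⟨hns, hds⟩ := st_data X hst
  have hws : wt x st = 1 := by
    rw [wt, st_val X hst (not_mem_Bs X h2 h3 (Or.inl hk))]
    simp
  set q : ℝ := (Fintype.card K : ℝ) with hqdef
  have hzero : ∑ χ : Cfsg.IrrCharacter ↥X.G1, ((χ : ↥X.G1 → ℂ) x).re * (nc X χ : ℝ) = 0 := by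
    have hne1 : ¬ IsConj x 1 := fun h => by
      obtain ⟨t, ht⟩ := isConj_iff.1 h
      rw [conj_eq_one_iff] at ht
      rw [ht, orderOf_one] at h2
      omega
    have hne2 : ¬ IsConj x (vz X (0, (1 : K))) := fun h => by
      obtain ⟨t, ht⟩ := isConj_iff.1 h
      have ho := orderOf_dvd_of_pow_eq_one (cube_vz X (0, (1 : K)))
      rw [← ht, show t * x * t⁻¹ = MulAut.conj t x from rfl, MulEquiv.orderOf_eq] at ho
      have := Nat.le_of_dvd (by norm_num) ho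
      interval_cases h' : orderOf x
      exact h3 dvd_rfl
    have e1 := congrArg Complex.re (second_orthogonality x (1 : ↥X.G1))
    have e2 := congrArg Complex.re (second_orthogonality x (vz X (0, (1 : K))))
    rw [if_neg hne1, Complex.re_sum, Complex.zero_re] at e1
    rw [if_neg hne2, Complex.re_sum, Complex.zero_re] at e2
    have hs : ∀ χ : Cfsg.IrrCharacter ↥X.G1, q * (((χ : ↥X.G1 → ℂ) x).re * (nc X χ : ℝ)) =
        ((χ : ↥X.G1 → ℂ) x * starRingEnd ℂ ((χ : ↥X.G1 → ℂ) 1)).re +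
          (q - 1) * ((χ : ↥X.G1 → ℂ) x * starRingEnd ℂ ((χ : ↥X.G1 → ℂ) (vz X (0, (1 : K))))).re := by
      intro χ
      rw [irr_apply_one_eq_deg, val_z X χ one_ne_zero]
      simp only [map_sub, map_mul, map_natCast, Complex.mul_re, Complex.sub_re, Complex.sub_im, Complex.mul_im,
        Complex.natCast_re, Complex.natCast_im, mul_zero, zero_mul, sub_zero, add_zero]
      rw [deg_eq_real X χ, ← hqdef]
      ring
    have hsum : q * ∑ χ : Cfsg.IrrCharacter ↥X.G1, ((χ : ↥X.G1 → ℂ) x).re * (nc X χ : ℝ) = 0 := by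
      rw [Finset.mul_sum, Finset.sum_congr rfl fun χ _ => hs χ, Finset.sum_add_distrib, ← Finset.mul_sum, e1, e2]
      ring
    exact (mul_eq_zero.1 hsum).resolve_left (by linarith)
  obtain ⟨χ₀, hχ₀, hne⟩ : ∃ χ₀ ∈ (Finset.univ.erase (one' ↥X.G1)).erase st,
      ((χ₀ : ↥X.G1 → ℂ) x).re * (nc X χ₀ : ℝ) ≠ 0 := by
    refine Finset.exists_ne_zero_of_sum_ne_zero ?_
    have hst' : st ∈ Finset.univ.erase (one' ↥X.G1) := Finset.mem_erase.2 ⟨hst1, Finset.mem_univ _⟩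
    rw [← Finset.add_sum_erase Finset.univ _ (Finset.mem_univ (one' _)), ← Finset.add_sum_erase _ _ hst',
      one'_apply, Complex.one_re, one_mul, nc_one, st_val X hst (not_mem_Bs X h2 h3 (Or.inl hk)), hns] at hzero
    intro h0
    rw [h0, Complex.neg_re, Complex.one_re] at hzero
    nlinarith
  have hpos : 0 < wt x χ₀ * nc X χ₀ / (deg (χ₀ : ↥X.G1 → ℂ) : ℝ) := by
    obtain ⟨h4, h5⟩ := mul_ne_zero_iff.1 hne
    exact div_pos (mul_pos (by rw [wt]; positivity) (lt_of_le_of_ne (Nat.cast_nonneg _) (Ne.symm h5))) (deg_pos χ₀)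
  rw [← Finset.add_sum_erase Finset.univ _ (Finset.mem_univ (one' _)),
    ← Finset.add_sum_erase _ _ (Finset.mem_erase.2 ⟨hst1, Finset.mem_univ st⟩),
    ← Finset.add_sum_erase _ _ hχ₀, wt_one, deg_one, nc_one, hws, hns, hds]
  have hrest : 0 ≤ ∑ χ ∈ ((Finset.univ.erase (one' ↥X.G1)).erase st).erase χ₀,
      wt x χ * nc X χ / (deg (χ : ↥X.G1 → ℂ) : ℝ) :=
    Finset.sum_nonneg fun χ _ => div_nonneg (mul_nonneg (wt_nonneg _ _) (Nat.cast_nonneg _)) (deg_pos χ).le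
  rw [mul_add, mul_add, show q * (1 * 1 / 1) = q by ring, show q * (1 * q ^ 2 / q ^ 3) = 1 by field_simp]
  nlinarith

theorem prod_z_tor (hm : 1 ≤ X.m) {x g : ↥X.G1} {A : Subgroup ↥X.G1} {a : ℕ} (hA : IsTor X A a)
    (ha : a = lo X ∨ a = hi X) (hg : g⁻¹ * x * g ∈ A) (hx1 : g⁻¹ * x * g ≠ 1)
    (hx : IsConj x x⁻¹) {c : K} (hc : c ≠ 0) :
    ∃ u v : ↥X.G1, vz X (0, c) = (u * x * u⁻¹) * (v * x * v⁻¹) := by
  classical
  obtain ⟨hq, he, h27⟩ := q_facts X hm
  obtain ⟨S, hS⟩ := exists_fam X hm hA ha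
  obtain ⟨st, hst1, hst⟩ := exists_st X
  refine prod_z X hx hc ?_
  rw [← card_cent_conj X g x, hA.cent _ hg hx1, hA.card]
  obtain ⟨hns, hds⟩ := st_data X hst
  set q : ℝ := (Fintype.card K : ℝ) with hqdef
  have hval : ∀ χ : Cfsg.IrrCharacter ↥X.G1, (χ : ↥X.G1 → ℂ) x = (χ : ↥X.G1 → ℂ) (g⁻¹ * x * g) := fun χ =>
    classFunction_eq_of_isConj (isClassFunction_irr χ) (isConj_iff.2 ⟨g⁻¹, by rw [inv_inv]⟩)
  have hws : wt x st = 1 := by
    rw [wt, hval, st_at_tor X hA ha hst hg hx1]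
    simp
  have hterm : ∀ χ ∈ S, wt x χ * (1 / 2) ≤ q * (wt x χ * nc X χ / (deg (χ : ↥X.G1 → ℂ) : ℝ)) := by
    intro χ hχ
    have hd := deg_pos χ
    rw [← mul_div_assoc q, le_div_iff₀ hd, mul_left_comm q, mul_assoc]
    refine mul_le_mul_of_nonneg_left ?_ (wt_nonneg _ _)
    rw [deg_eq_real X χ, ← hqdef]
    have hk : (6 : ℝ) ≤ kc X χ := by exact_mod_cast hS.kc_ge hm hA ha hχ
    obtain ⟨hlo, -⟩ := hS.diff_le hm hA ha hχ
    rw [← hqdef] at hlo
    nlinarith [mul_le_mul_of_nonneg_left hk (show (0 : ℝ) ≤ q * q by positivity),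
      mul_le_mul_of_nonneg_left hlo (show (0 : ℝ) ≤ 2 * q - 1 by linarith)]
  have hwS : (a : ℝ) - 6 ≤ ∑ χ ∈ S, wt x χ := by
    refine le_trans (hS.weight _ hg hx1) (le_of_eq (Finset.sum_congr rfl fun χ _ => ?_))
    rw [← hval, Complex.normSq_eq_norm_sq, norm_sq_real hx]
  have hle : ∑ χ ∈ insert (one' _) (insert st S), q * (wt x χ * nc X χ / (deg (χ : ↥X.G1 → ℂ) : ℝ)) ≤
      q * ∑ χ : Cfsg.IrrCharacter ↥X.G1, wt x χ * nc X χ / (deg (χ : ↥X.G1 → ℂ) : ℝ) := by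
    rw [Finset.mul_sum]
    exact Finset.sum_le_sum_of_subset_of_nonneg (Finset.subset_univ _) fun χ _ _ =>
      mul_nonneg (by linarith) (div_nonneg (mul_nonneg (wt_nonneg _ _) (Nat.cast_nonneg _)) (deg_pos χ).le)
  rw [Finset.sum_insert (by simp [Ne.symm hst1, hS.one_notMem]), Finset.sum_insert (hS.st_notMem hA ha hst),
    wt_one, deg_one, nc_one, hws, hns, hds, show q * (1 * 1 / 1) = q by ring,
    show q * (1 * q ^ 2 / q ^ 3) = 1 by field_simp] at hle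
  have h4 := Finset.sum_le_sum hterm
  rw [← Finset.sum_mul] at h4
  have ha13 : (13 : ℝ) ≤ a := by exact_mod_cast tor_ge X hm ha
  have hgoal : (a : ℝ) < q + 1 + ((a : ℝ) - 6) * (1 / 2) := by
    have h6 := card_tor_le X ha
    rw [← hqdef] at h6
    nlinarith
  linarith [mul_le_mul_of_nonneg_right hwS (show (0 : ℝ) ≤ 1 / 2 by norm_num)]

theorem arith_inv {P W v R E q e : ℝ} (hW : 0 ≤ W) (hW' : W ≤ 6 * E) (hE : 0 < E)
    (hR : P ^ 2 ≤ 16 * R) (hC : R + E * v ^ 2 ≤ q * (q - 1) * (q + 1)) (hEq : 6 * E ≤ q + 3 * e)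
    (hq : q = 3 * e ^ 2) (he : 3 ≤ e) : 6 * P + W * v < 6 * (q * (q - 1)) := by
  have h27 : 27 ≤ q := by nlinarith
  have hC0 : 0 ≤ q * (q - 1) * (q + 1) := by
    have : 0 ≤ q * (q - 1) := mul_nonneg (by linarith) (by linarith)
    exact mul_nonneg this (by linarith)
  have h1 : E * (6 * P + W * v) ^ 2 ≤ (576 * E + W ^ 2) * (P ^ 2 / 16 + E * v ^ 2) := by
    nlinarith [sq_nonneg (W * P / 4 - 24 * E * v)]
  have h2 : (576 * E + W ^ 2) * (P ^ 2 / 16 + E * v ^ 2) ≤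
      (576 * E + W ^ 2) * (q * (q - 1) * (q + 1)) :=
    mul_le_mul_of_nonneg_left (by linarith) (by positivity)
  have h3 : 576 * E + W ^ 2 ≤ E * (576 + 6 * (q + 3 * e)) := by
    have : W ^ 2 ≤ 6 * E * (6 * E) := by
      rw [sq]; exact mul_le_mul hW' hW' hW (by linarith)
    nlinarith [mul_le_mul_of_nonneg_left hEq hE.le]
  have h4 : (576 + 6 * (q + 3 * e)) * (q + 1) < 36 * (q * (q - 1)) := by
    have : 18 * e ≤ 2 * q := by nlinarith
    nlinarith
  have h5 : E * (6 * P + W * v) ^ 2 < E * (6 * (q * (q - 1))) ^ 2 := by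
    have hqq : 0 < q * (q - 1) := mul_pos (by linarith) (by linarith)
    calc E * (6 * P + W * v) ^ 2 ≤ E * (576 + 6 * (q + 3 * e)) * (q * (q - 1) * (q + 1)) :=
          h1.trans (h2.trans (mul_le_mul_of_nonneg_right h3 hC0))
      _ = E * (q * (q - 1)) * ((576 + 6 * (q + 3 * e)) * (q + 1)) := by ring
      _ < E * (q * (q - 1)) * (36 * (q * (q - 1))) := mul_lt_mul_of_pos_left h4 (by positivity)
      _ = _ := by ring
  exact lt_of_pow_lt_pow_left₀ 2 (mul_nonneg (by norm_num) (mul_nonneg (by linarith) (by linarith)))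
    (lt_of_mul_lt_mul_left h5 hE.le)

theorem prod_inv_tor (hm : 1 ≤ X.m) {x g : ↥X.G1} {A : Subgroup ↥X.G1} {a : ℕ} (hA : IsTor X A a)
    (ha : a = lo X ∨ a = hi X) (hg : g⁻¹ * x * g ∈ A) (hx1 : g⁻¹ * x * g ≠ 1) (hx : IsConj x x⁻¹) :
    ∃ u v : ↥X.G1, hv X = (u * x * u⁻¹) * (v * x * v⁻¹) := by
  classical
  obtain ⟨hq, he, h27⟩ := q_facts X hm
  obtain ⟨S, hS⟩ := exists_fam X hm hA ha
  obtain ⟨st, hst1, hst⟩ := exists_st X
  refine exists_prod hx ?_
  set q : ℝ := (Fintype.card K : ℝ) with hqdef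
  have hval : ∀ χ : Cfsg.IrrCharacter ↥X.G1, (χ : ↥X.G1 → ℂ) x = (χ : ↥X.G1 → ℂ) (g⁻¹ * x * g) := fun χ =>
    classFunction_eq_of_isConj (isClassFunction_irr χ) (isConj_iff.2 ⟨g⁻¹, by rw [inv_inv]⟩)
  have hws : wt x st = 1 := by
    rw [wt, hval, st_at_tor X hA ha hst hg hx1]
    simp
  have h1S : one' _ ∉ insert st S := by simp [Ne.symm hst1, hS.one_notMem]
  set T := insert (one' ↥X.G1) (insert st S) with hT
  set rest := Finset.univ \ T with hrest
  rw [← Finset.sum_sdiff (Finset.subset_univ T), ← hrest, hT, Finset.sum_insert h1S,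
    Finset.sum_insert (hS.st_notMem hA ha hst), tm_one]
  have hstpos : 0 ≤ tm x (hv X) st := by
    rw [tm, hst, Complex.sub_re, Complex.one_re]
    exact div_nonneg (mul_nonneg (wt_nonneg _ _) (by linarith [pc_hv X])) (deg_pos st).le
  set W := ∑ χ ∈ S, wt x χ with hW
  have hall := sum_wt hx
  rw [← card_cent_conj X g x, hA.cent _ hg hx1, hA.card, ← Finset.sum_sdiff (Finset.subset_univ T), ← hrest, hT,
    Finset.sum_insert h1S, Finset.sum_insert (hS.st_notMem hA ha hst), wt_one, hws, ← hW] at hall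
  have hwS : (a : ℝ) - 6 ≤ W := by
    refine le_trans (hS.weight _ hg hx1) (le_of_eq (Finset.sum_congr rfl fun χ _ => ?_))
    rw [← hval, Complex.normSq_eq_norm_sq, norm_sq_real hx]
  have hr4 : ∑ χ ∈ rest, wt x χ ≤ 4 := by linarith
  obtain ⟨χ₁, hχ₁⟩ : S.Nonempty := Finset.card_pos.1 (by have := (hS.card_ge hm ha).2; omega)
  set v := ‖(χ₁ : ↥X.G1 → ℂ) (hv X)‖
  have hagree : ∀ χ ∈ S, (χ : ↥X.G1 → ℂ) (hv X) = (χ₁ : ↥X.G1 → ℂ) (hv X) := fun χ hχ =>
    hS.agree χ hχ χ₁ hχ₁ _ (off_tor_hv hA ha)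
  set P := ∑ χ ∈ rest, wt x χ * ‖(χ : ↥X.G1 → ℂ) (hv X)‖ with hP
  set R := ∑ χ ∈ rest, ‖(χ : ↥X.G1 → ℂ) (hv X)‖ ^ 2 with hR
  have hqq : 0 < q * (q - 1) := mul_pos (by linarith) (by linarith)
  have hP0 : 0 ≤ P := Finset.sum_nonneg fun χ _ => mul_nonneg (wt_nonneg _ _) (norm_nonneg _)
  have hPR : P ^ 2 ≤ 16 * R := by
    refine (Finset.sum_mul_sq_le_sq_mul_sq rest _ _).trans ?_
    refine mul_le_mul_of_nonneg_right ?_ (Finset.sum_nonneg fun χ _ => sq_nonneg _)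
    calc ∑ χ ∈ rest, wt x χ ^ 2 ≤ ∑ χ ∈ rest, 4 * wt x χ := by
          refine Finset.sum_le_sum fun χ hχ => ?_
          rw [sq]
          refine mul_le_mul_of_nonneg_right (le_trans ?_ hr4) (wt_nonneg _ _)
          exact Finset.single_le_sum (f := wt x) (fun ψ _ => wt_nonneg _ _) hχ
      _ ≤ 16 := by rw [← Finset.mul_sum]; linarith
  have hC : R + (S.card : ℝ) * v ^ 2 ≤ q * (q - 1) * (q + 1) := by
    have h1 := sum_norm_sq_irr (hv X)
    rw [card_Ct, Nat.cast_mul, Nat.cast_mul, Nat.cast_sub Fintype.card_pos, Nat.cast_add, Nat.cast_one, ← hqdef,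
      ← Finset.sum_sdiff (Finset.subset_univ T), ← hrest, hT, Finset.sum_insert h1S,
      Finset.sum_insert (hS.st_notMem hA ha hst), ← hR,
      Finset.sum_congr rfl (s₁ := S) (g := fun _ => v ^ 2) fun χ hχ => by rw [hagree χ hχ],
      Finset.sum_const, nsmul_eq_mul] at h1
    nlinarith [sq_nonneg ‖(st : ↥X.G1 → ℂ) (hv X)‖, sq_nonneg ‖(one' ↥X.G1 : ↥X.G1 → ℂ) (hv X)‖]
  have hcard : 6 * (S.card : ℝ) + 1 = (a : ℝ) := by exact_mod_cast hS.card
  have hS0 : (0 : ℝ) < (S.card : ℝ) := by exact_mod_cast Finset.card_pos.2 ⟨χ₁, hχ₁⟩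
  have harith := arith_inv (v := v) (Finset.sum_nonneg fun χ _ => wt_nonneg x χ)
    (show W ≤ 6 * (S.card : ℝ) by
      have : (0 : ℝ) ≤ ∑ χ ∈ rest, wt x χ := Finset.sum_nonneg fun χ _ => wt_nonneg x χ
      linarith) hS0 hPR hC (show 6 * (S.card : ℝ) ≤ q + 3 * (X.e : ℝ) by
      have := card_tor_le X ha
      linarith) hq he
  have hrestT : -(P / (q * (q - 1))) ≤ ∑ χ ∈ rest, tm x (hv X) χ := by
    rw [hP, Finset.sum_div, ← Finset.sum_neg_distrib]
    refine Finset.sum_le_sum fun χ hχ => ?_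
    have hne : χ ≠ one' _ := fun e => (Finset.mem_sdiff.1 hχ).2 (by rw [e, hT]; exact Finset.mem_insert_self _ _)
    have hd := deg_min X hm hne
    rw [← hqdef] at hd
    have hre := (abs_le.1 (Complex.abs_re_le_norm ((χ : ↥X.G1 → ℂ) (hv X)))).1
    have hw := wt_nonneg x χ
    rw [tm, ← neg_div, div_le_div_iff₀ hqq (deg_pos χ)]
    calc -(wt x χ * ‖(χ : ↥X.G1 → ℂ) (hv X)‖) * (deg (χ : ↥X.G1 → ℂ) : ℝ)
        ≤ -(wt x χ * ‖(χ : ↥X.G1 → ℂ) (hv X)‖) * (q * (q - 1)) :=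
          mul_le_mul_of_nonpos_left hd (neg_nonpos.2 (mul_nonneg hw (norm_nonneg _)))
      _ ≤ wt x χ * ((χ : ↥X.G1 → ℂ) (hv X)).re * (q * (q - 1)) := by
          refine mul_le_mul_of_nonneg_right ?_ hqq.le
          rw [← mul_neg]; exact mul_le_mul_of_nonneg_left hre hw
  have hST : -(W * v / (6 * (q * (q - 1)))) ≤ ∑ χ ∈ S, tm x (hv X) χ := by
    rw [hW, Finset.sum_mul, Finset.sum_div, ← Finset.sum_neg_distrib]
    refine Finset.sum_le_sum fun χ hχ => ?_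
    have hk : (6 : ℝ) ≤ kc X χ := by exact_mod_cast hS.kc_ge hm hA ha hχ
    have hd : 6 * (q * (q - 1)) ≤ (deg (χ : ↥X.G1 → ℂ) : ℝ) := by
      rw [deg_eq_real X χ, ← hqdef]
      nlinarith [mul_le_mul_of_nonneg_left hk hqq.le, (Nat.cast_nonneg (nc X χ) : (0 : ℝ) ≤ nc X χ)]
    have hre := (abs_le.1 (Complex.abs_re_le_norm ((χ : ↥X.G1 → ℂ) (hv X)))).1
    rw [hagree χ hχ] at hre
    have hw := wt_nonneg x χ
    rw [tm, hagree χ hχ, ← neg_div, div_le_div_iff₀ (by linarith) (deg_pos χ)]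
    calc -(wt x χ * v) * (deg (χ : ↥X.G1 → ℂ) : ℝ)
        ≤ -(wt x χ * v) * (6 * (q * (q - 1))) :=
          mul_le_mul_of_nonpos_left hd (neg_nonpos.2 (mul_nonneg hw (norm_nonneg _)))
      _ ≤ wt x χ * ((χ₁ : ↥X.G1 → ℂ) (hv X)).re * (6 * (q * (q - 1))) := by
          refine mul_le_mul_of_nonneg_right ?_ (by linarith)
          rw [← mul_neg]; exact mul_le_mul_of_nonneg_left hre hw
  have hlt : P / (q * (q - 1)) + W * v / (6 * (q * (q - 1))) < 1 := by
    rw [show P / (q * (q - 1)) = 6 * P / (6 * (q * (q - 1))) by rw [mul_div_mul_left _ _ (by norm_num : (6 : ℝ) ≠ 0)],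
      ← add_div, div_lt_one (by linarith)]
    exact harith
  linarith

/-- Involutions, for the elements centralising an involution. -/
theorem prod_inv_cent (hm : 1 ≤ X.m) {y : ↥X.G1} (h2 : 2 < orderOf y) (h3 : ¬ 3 ∣ orderOf y)
    (hy : y * hv X = hv X * y) : ∃ u v : ↥X.G1, w0 X = (u * y * u⁻¹) * (v * y * v⁻¹) := by
  obtain ⟨a, z, e⟩ := exists_iota X hy
  haveI := Cfsg.Lib.Chev.Ree.charP_three X.hK
  haveI : Fact (Nat.Prime 3) := ⟨Nat.prime_three⟩
  have hsq : a * a = 1 := Cfsg.Lib.GTwoOdd.ReeInv.z2_sq a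
  have hz2 : 2 < orderOf z := by
    by_contra hle
    push Not at hle
    have hz : z ^ 2 = 1 := by
      have hpos := orderOf_pos z
      rcases (show orderOf z = 1 ∨ orderOf z = 2 by omega) with h | h
      · rw [orderOf_eq_one_iff.1 h, one_pow]
      · have h' := pow_orderOf_eq_one z
        rwa [h] at h'
    have : y ^ 2 = 1 := by
      rw [← e, ← map_pow, ← map_one (iota X)]
      exact congrArg (iota X) (Prod.ext (by rw [Prod.pow_fst, sq]; exact hsq) hz)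
    have := Nat.le_of_dvd two_pos (orderOf_dvd_of_pow_eq_one this)
    omega
  have hz3 : ¬ 3 ∣ orderOf z := fun h => h3 (h.trans (orderOf_dvd_of_pow_eq_one (by
    have := pow_orderOf_eq_one y
    nth_rw 1 [← e] at this
    rw [← map_pow, ← map_one (iota X)] at this
    exact congrArg Prod.snd (Prod.ext (iota_inj' X this).1 (iota_inj' X this).2 :
      ((a, z) ^ orderOf y) = 1))))
  have h5 : 5 ≤ Fintype.card K := by
    rw [X.hK]; exact le_trans (by norm_num) (Nat.pow_le_pow_right (by norm_num : 0 < 3) (show 2 ≤ 2 * X.m + 1 by omega))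
  obtain ⟨p, r, hpr⟩ := Cfsg.Agent.S2455.result 3 (by norm_num) h5 z hz2 hz3 (u0 X) (u0_ne_one X)
  refine ⟨iota X (1, p), iota X (1, r), ?_⟩
  rw [← e, ← map_inv, ← map_inv, ← map_mul, ← map_mul, ← map_mul, ← map_mul, ← map_mul, w0]
  refine congrArg (iota X) (Prod.ext ?_ ?_)
  · show (1 : Multiplicative (ZMod 2)) = 1 * a * 1⁻¹ * (1 * a * 1⁻¹)
    rw [inv_one, one_mul, mul_one, hsq]
  · exact hpr

/-- The covering property. -/
theorem cover_main (hm : 1 ≤ X.m) {x g : ↥X.G1} (h2 : 2 < orderOf x) (h3 : ¬ 3 ∣ orderOf x) (hg1 : g ≠ 1) :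
    ∃ u v : ↥X.G1, g = (u * x * u⁻¹) * (v * x * v⁻¹) := by
  have hk := order_kinds X hm h2 h3
  have ha := cent_semi X hm h2 hk
  obtain ⟨hq, he, h27⟩ := q_facts X hm
  have hreal : IsConj x x⁻¹ := by
    rcases semi_cases X hm h2 hk with ⟨t, ht⟩ | ⟨t, ht⟩ | ⟨A, a, hA, hal, t, ht⟩
    · exact real_Hs X ht
    · exact real_T0 X hm ht
    · exact real_tor X hA (odd_tor X hal) ht
  have hgo : orderOf g = 2 ∨ orderOf g = 3 ∨ orderOf g = 6 ∨ orderOf g = 9 ∨ 2 < orderOf g ∧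
      (orderOf g ∣ Fintype.card K - 1 ∨ orderOf g ∣ 2 * nn X ∨ orderOf g ∣ NN X) := by
    have h1 : orderOf g ≠ 1 := fun e => hg1 (orderOf_eq_one_iff.1 e)
    have hpos := orderOf_pos g
    by_cases h2' : orderOf g = 2
    · exact Or.inl h2'
    rcases classify X hm g with h | h | h | h | ⟨-, h⟩
    · have hle := Nat.le_of_dvd (by norm_num) h
      interval_cases h' : orderOf g <;> omega
    · exact Or.inr (Or.inr (Or.inr (Or.inl h)))
    · exact Or.inr (Or.inr (Or.inr (Or.inr ⟨by omega, Or.inl h⟩)))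
    · exact Or.inr (Or.inr (Or.inr (Or.inr ⟨by omega, Or.inr (Or.inl h)⟩)))
    · exact Or.inr (Or.inr (Or.inr (Or.inr ⟨by omega, Or.inr (Or.inr h)⟩)))
  rcases hgo with hg | hg | hg | hg | ⟨hg, hgk⟩
  · -- involutions
    rcases semi_cases X hm h2 hk with ⟨t, ht⟩ | ⟨t, ht⟩ | ⟨A, a, hA, hal, t, ht⟩
    · obtain ⟨s, hs'⟩ := (mem_Hs X).1 ht
      obtain ⟨b, hb⟩ := inv_conj X hm (s := g) hg
      obtain ⟨b', hb'⟩ := inv_conj X hm (s := w0 X) (V3_spec X (t := w0 X) (Or.inr (Or.inl rfl))).2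
      refine prod_conj t (b * b'⁻¹) ?_
      rw [show (b * b'⁻¹)⁻¹ * g * (b * b'⁻¹) = w0 X by rw [← hb, ← hb']; group]
      refine prod_inv_cent X hm (by rw [orderOf_conj']; exact h2) (by rw [orderOf_conj']; exact h3) ?_
      rw [← hs', ← hs_neg_one, ← map_mul, ← map_mul, mul_comm]
    · obtain ⟨b, hb⟩ := inv_conj X hm (s := g) hg
      obtain ⟨b', hb'⟩ := inv_conj X hm (s := w0 X) (V3_spec X (t := w0 X) (Or.inr (Or.inl rfl))).2
      refine prod_conj t (b * b'⁻¹) ?_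
      rw [show (b * b'⁻¹)⁻¹ * g * (b * b'⁻¹) = w0 X by rw [← hb, ← hb']; group]
      exact prod_inv_cent X hm (by rw [orderOf_conj']; exact h2) (by rw [orderOf_conj']; exact h3)
        (Subgroup.mem_centralizer_singleton_iff.1 (T0_le X ht))
    · obtain ⟨b, hb⟩ := inv_conj X hm (s := g) hg
      refine prod_conj 1 b ?_
      rw [show b⁻¹ * g * b = hv X by rw [← hb]; group]
      simp only [inv_one, one_mul, mul_one]
      refine prod_inv_tor X hm hA hal ht (fun e => ?_) hreal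
      have := orderOf_conj' X t x
      rw [e, orderOf_one] at this
      omega
  · -- order three
    obtain ⟨b, hb⟩ := three_conj X (w := g)
      (by rw [show (9 : ℕ) = 3 * 3 from rfl, pow_mul, ← hg, pow_orderOf_eq_one, one_pow])
    obtain ⟨⟨β, γ⟩, hp, e⟩ := order_three_Us X hb (by rw [orderOf_conj', hg])
    refine prod_conj 1 b ?_
    rw [e]
    simp only [inv_one, one_mul, mul_one]
    rcases eq_or_ne β 0 with rfl | hβ
    · have hγ : γ ≠ 0 := fun h => hp (by rw [h]; rfl)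
      rcases semi_cases X hm h2 hk with ⟨t, ht⟩ | ⟨t, ht⟩ | ⟨A, a, hA, hal, t, ht⟩
      · exact prod_z_Hs X h2 ht hreal hγ
      · refine prod_z_T0 X hm h2 h3 ?_ ht hreal hγ
        rw [← orderOf_conj' X t x]
        exact orderOf_dvd_of_pow_eq_one (T0_pow X ht)
      · refine prod_z_tor X hm hA hal ht (fun e' => ?_) hreal hγ
        have := orderOf_conj' X t x
        rw [e', orderOf_one] at this
        omega
    · exact prod_t X hm hreal ha hβ γ
  · refine prod_small X hm hreal ha ?_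
    have h1 : (Nat.card (Subgroup.centralizer ({g} : Set ↥X.G1)) : ℝ) ≤ 2 * Fintype.card K := by
      exact_mod_cast card_cent_six X hg
    nlinarith
  · refine prod_small X hm hreal ha ?_
    exact_mod_cast card_cent_nine X hg
  · refine prod_small X hm hreal ha (le_trans (cent_semi X hm hg hgk) ?_)
    nlinarith

end Cfsg.Lib.ReeCover
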