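import Cfsg.Agent.Chev.GTwoOdd.ReeS.Cover.Sums
import Cfsg.Agent.Chars.Perm
import Cfsg.Agent.Chars.Gallagher
import Cfsg.Agent.OddChar.Zassenhaus.Coherent
import Cfsg.Agent.S0190

/-!
# The Steinberg character of a small Ree group and characters without unipotent fixed points
-/

set_option autoImplicit false
set_option linter.dupNamespace false
set_option linter.unusedSectionVars false
set_option linter.style.haveILetI false

open Finset
open scoped ComplexConjugate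

namespace Cfsg.Lib.ReeCover

open Cfsg.Lib.Chars
open Cfsg.Lib.Chev
open Cfsg.Lib.Chev.Ree (Ree SG)
open Cfsg.Lib.ReeStruct
open Cfsg.Lib.GTwoOdd.ReeInv (hv)

universe u
variable {K : Type u} [Field K] [Fintype K] (X : Ree K) [Fintype ↥X.G1]

/-- The permutation character on the cosets of the Borel subgroup. -/
noncomputable def pc : ↥X.G1 → ℂ := permChar ↥X.G1 (↥X.G1 ⧸ X.Bs)

theorem pc_eq : pc X = Cfsg.indFun X.Bs (fun _ => 1) := by
  have h := Cfsg.Agent.S0190.result (G := ↥X.G1) (↥X.G1 ⧸ X.Bs) ((1 : ↥X.G1) : ↥X.G1 ⧸ X.Bs)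
  show permChar ↥X.G1 (↥X.G1 ⧸ X.Bs) = _
  refine h.trans ?_
  have key : ∀ H : Subgroup ↥X.G1, H = X.Bs →
      Cfsg.indFun H (fun _ => (1 : ℂ)) = Cfsg.indFun X.Bs (fun _ => 1) := by rintro _ rfl; rfl
  exact key _ (MulAction.stabilizer_quotient X.Bs)

theorem fixed_iff {g h : ↥X.G1} :
    (h : ↥X.G1 ⧸ X.Bs) ∈ MulAction.fixedBy (↥X.G1 ⧸ X.Bs) g ↔ h⁻¹ * g * h ∈ X.Bs := by
  rw [MulAction.mem_fixedBy, eq_comm, MulAction.Quotient.smul_coe, QuotientGroup.eq, smul_eq_mul, mul_assoc]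

theorem pc_unip {z : ↥X.G1} (hz : z ∈ Us X) (hz1 : z ≠ 1) : pc X z = 1 := by
  have hs : MulAction.fixedBy (↥X.G1 ⧸ X.Bs) z = {((1 : ↥X.G1) : ↥X.G1 ⧸ X.Bs)} := by
    ext q
    induction q using QuotientGroup.induction_on with
    | H g =>
      rw [fixed_iff, Set.mem_singleton_iff, QuotientGroup.eq, mul_one]
      constructor
      · intro h
        exact mem_Bs_of_conj X hz hz1 (g := g⁻¹) (by rwa [inv_inv])
      · intro h
        exact mul_mem (mul_mem h (Us_le_Bs X hz)) (inv_mem_iff.1 h)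
  show permChar _ _ z = 1
  rw [permChar, hs]
  simp

theorem pc_off {x : ↥X.G1} (h : ∀ g : ↥X.G1, g⁻¹ * x * g ∉ X.Bs) : pc X x = 0 := by
  have hs : MulAction.fixedBy (↥X.G1 ⧸ X.Bs) x = ∅ := by
    ext q
    induction q using QuotientGroup.induction_on with
    | H g => simp only [fixed_iff, Set.mem_empty_iff_false, iff_false]; exact h g
  show permChar _ _ x = 0
  rw [permChar, hs]
  simp

theorem pc_hv : 1 ≤ (pc X (hv X)).re := by
  have h1 : 0 < Nat.card (MulAction.fixedBy (↥X.G1 ⧸ X.Bs) (hv X)) := by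
    have : Nonempty (MulAction.fixedBy (↥X.G1 ⧸ X.Bs) (hv X)) :=
      ⟨⟨((1 : ↥X.G1) : ↥X.G1 ⧸ X.Bs), (fixed_iff X).2 (by
        rw [inv_one, one_mul, mul_one, ← hs_neg_one]; exact hs_mem_Bs X _)⟩⟩
    exact Nat.card_pos
  show (1 : ℝ) ≤ ((Nat.card (MulAction.fixedBy (↥X.G1 ⧸ X.Bs) (hv X)) : ℕ) : ℂ).re
  rw [Complex.natCast_re]
  exact_mod_cast h1

theorem pc_one : pc X 1 = (Fintype.card K : ℂ) ^ 3 + 1 := by
  show permChar _ _ 1 = _
  rw [permChar]
  have : Nat.card (MulAction.fixedBy (↥X.G1 ⧸ X.Bs) (1 : ↥X.G1)) = X.Bs.index := by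
    rw [Subgroup.index]
    exact Nat.card_congr (Equiv.subtypeUnivEquiv fun q => by simp)
  rw [this, index_Bs]
  push_cast
  ring

theorem orbits_two : Nat.card (MulAction.orbitRel.Quotient ↥X.Bs (↥X.G1 ⧸ X.Bs)) = 2 := by
  rw [← Nat.card_eq_two_iff.2 ⟨false, true, Bool.false_ne_true, by ext b; cases b <;> simp⟩]
  symm
  let f : Bool → MulAction.orbitRel.Quotient ↥X.Bs (↥X.G1 ⧸ X.Bs) := fun b =>
    Quotient.mk'' (if b then ((X.sn : ↥X.G1) : ↥X.G1 ⧸ X.Bs) else ((1 : ↥X.G1) : ↥X.G1 ⧸ X.Bs))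
  refine Nat.card_congr (Equiv.ofBijective f ⟨?_, fun q => ?_⟩)
  · have key : f false ≠ f true := by
      intro h
      simp only [f, Bool.false_eq_true, if_false, if_true] at h
      obtain ⟨b, hb⟩ := MulAction.orbitRel_apply.1 (Quotient.eq''.1 h)
      change ((b : ↥X.G1) • ((X.sn : ↥X.G1) : ↥X.G1 ⧸ X.Bs)) = _ at hb
      rw [MulAction.Quotient.smul_coe, QuotientGroup.eq, smul_eq_mul, mul_one] at hb
      exact sn_notMem X ((Subgroup.mul_mem_cancel_left _ b.2).1 (inv_mem_iff.1 hb))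
    intro a b h
    cases a <;> cases b <;> first | rfl | exact absurd h key | exact absurd h.symm key
  · induction q using Quotient.inductionOn' with
    | h c =>
      induction c using QuotientGroup.induction_on with
      | H g =>
        rcases tri X g with hg | ⟨b, hb, u, hu, rfl⟩
        · refine ⟨false, ?_⟩
          simp only [f, Bool.false_eq_true, if_false]
          congr 1
          rw [QuotientGroup.eq, inv_one, one_mul]
          exact hg
        · refine ⟨true, ?_⟩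
          simp only [f, if_true]
          refine Quotient.eq''.2 (MulAction.orbitRel_apply.2 ⟨⟨b⁻¹, inv_mem hb⟩, ?_⟩)
          show (b⁻¹ : ↥X.G1) • ((b * X.sn * u : ↥X.G1) : ↥X.G1 ⧸ X.Bs) = _
          rw [MulAction.Quotient.smul_coe, QuotientGroup.eq, smul_eq_mul]
          rw [show (b⁻¹ * (b * X.sn * u))⁻¹ * X.sn = u⁻¹ by group]
          exact inv_mem (Us_le_Bs X hu)

theorem pc_norm : Cfsg.classInner (pc X) (pc X) = 2 := by
  letI : Fintype ↥X.Bs := Fintype.ofFinite _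
  nth_rw 1 [pc_eq]
  rw [frobenius_reciprocity X.Bs _ (χ := pc X) (isClassFunction_isChar (isCharacter_permChar _)),
    ← classInner_conj_symm]
  have : (fun b : X.Bs => pc X (b : ↥X.G1)) = permChar ↥X.Bs (↥X.G1 ⧸ X.Bs) := rfl
  rw [this, classInner_permChar_one, orbits_two]
  simp [map_ofNat]

theorem norm_indFun_le {H : Subgroup ↥X.G1} {θ : H → ℂ} (hθ : ∀ b, ‖θ b‖ ≤ 1) (g : ↥X.G1) :
    ‖Cfsg.indFun H θ g‖ ≤ ‖Cfsg.indFun H (fun _ => (1 : ℂ)) g‖ := by
  classical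
  rw [indFun_apply, indFun_apply, norm_mul, norm_mul]
  refine mul_le_mul_of_nonneg_left ?_ (norm_nonneg _)
  refine (norm_sum_le _ _).trans ?_
  have hterm : ∀ x : ↥X.G1, Cfsg.extendByZero H (fun _ => (1 : ℂ)) (x⁻¹ * g * x) =
      (((if x⁻¹ * g * x ∈ H then 1 else 0 : ℝ)) : ℂ) := by
    intro x
    split_ifs with hx
    · rw [extendByZero_mem _ hx]; simp
    · rw [extendByZero_not_mem _ hx]; simp
  rw [Finset.sum_congr rfl fun x _ => hterm x, ← Complex.ofReal_sum, Complex.norm_real,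
    Real.norm_of_nonneg (Finset.sum_nonneg fun x _ => by split_ifs <;> norm_num)]
  refine Finset.sum_le_sum fun x _ => ?_
  split_ifs with hx
  · rw [extendByZero_mem _ hx]; exact hθ _
  · rw [extendByZero_not_mem _ hx, norm_zero]

theorem inner_pc_one : Cfsg.classInner (pc X) (fun _ => 1) = 1 := by
  letI : Fintype ↥X.Bs := Fintype.ofFinite _
  rw [pc_eq, frobenius_reciprocity X.Bs _ (χ := fun _ => (1 : ℂ)) (isClassFunction_irr (one' ↥X.G1))]
  exact classInner_irr_self (one' ↥X.Bs)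

/-- The Steinberg character. -/
theorem exists_st : ∃ χ : Cfsg.IrrCharacter ↥X.G1, χ ≠ one' _ ∧
    ∀ g, (χ : ↥X.G1 → ℂ) g = pc X g - 1 := by
  set f : ↥X.G1 → ℂ := pc X - fun _ => 1 with hf
  have hgen : Cfsg.IsGeneralizedCharacter ↥X.G1 f :=
    ⟨_, _, isCharacter_permChar _, isCharacter_one, rfl⟩
  have hn : Cfsg.classInner f f = 1 := by
    have h10 : Cfsg.classInner (fun _ : ↥X.G1 => (1 : ℂ)) (pc X) = 1 := by
      rw [← classInner_conj_symm, inner_pc_one, map_one]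
    rw [hf, classInner_sub_left, classInner_sub_right, classInner_sub_right, pc_norm, inner_pc_one, h10]
    have h11 : Cfsg.classInner (fun _ : ↥X.G1 => (1 : ℂ)) (fun _ => 1) = 1 := classInner_irr_self (one' ↥X.G1)
    rw [h11]
    norm_num
  have h3 : (1 : ℝ) < (Fintype.card K : ℝ) ^ 3 := by
    have : (1 : ℝ) < Fintype.card K := by exact_mod_cast Fintype.one_lt_card
    exact one_lt_pow₀ this (by norm_num)
  have hf1 : f 1 = ((Fintype.card K : ℝ) ^ 3 : ℝ) := by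
    show pc X 1 - 1 = _
    rw [pc_one]; push_cast; ring
  rcases isIrr_or_neg_of_norm_one hgen hn with h | h
  · refine ⟨⟨f, h⟩, fun e => ?_, fun g => rfl⟩
    have h1 : f 1 = 1 := congrFun (congrArg Subtype.val e) 1
    rw [hf1, Complex.ofReal_eq_one] at h1
    linarith
  · exfalso
    have := IsCharacter.one_re_nonneg (isCharacter_of_irr h)
    rw [Pi.neg_apply, hf1, Complex.neg_re, Complex.ofReal_re] at this
    linarith

theorem mk_tw_vz (t : K) (p : K × K) :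
    (⟨X.uu t p.1 p.2, X.uu_mem_G1 _ _ _⟩ : ↥X.G1) = tw X t * vz X p := by
  have := Cfsg.Lib.Chev.Ree.charP_three X.hK
  refine Subtype.ext ?_
  show X.uu t p.1 p.2 = X.uu t 0 0 * X.uu 0 p.1 p.2
  have h1 : X.e + 1 ≠ 0 := by omega
  have h2 : 2 * X.e + 1 ≠ 0 := by omega
  simp only [Ree.uu, Cfsg.Lib.Chev.Ree.Ree.w6_mul, zero_pow X.e_pos.ne', zero_pow h1, zero_pow h2, zero_add, add_zero,
    zero_mul, mul_zero, neg_zero, sub_zero, zero_pow (show (2 : ℕ) ≠ 0 by omega),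
    zero_pow (show (3 : ℕ) ≠ 0 by omega)]

theorem mem_Us_iff {g : ↥X.G1} : g ∈ Us X ↔ ∃ t : K, ∃ p : K × K, g = tw X t * vz X p := by
  constructor
  · intro hg
    obtain ⟨t, u, v, e⟩ := X.mem_U1_iff.1 (Subgroup.mem_inf.2 ⟨hg, g.2⟩)
    exact ⟨t, (u, v), (Subtype.ext e).trans (mk_tw_vz X t (u, v))⟩
  · rintro ⟨t, p, rfl⟩
    rw [← mk_tw_vz]
    exact X.uu_mem_U _ _ _

theorem sum_Us {M : Type*} [AddCommMonoid M] (F : ↥X.G1 → M) [DecidablePred (· ∈ Us X)] :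
    ∑ g ∈ Finset.univ.filter (· ∈ Us X), F g = ∑ t : K, ∑ p : K × K, F (tw X t * vz X p) := by
  rw [← Fintype.sum_prod_type']
  symm
  refine Finset.sum_bij (fun x _ => tw X x.1 * vz X x.2) (fun x _ => ?_) (fun a _ b _ h => ?_) (fun g hg => ?_)
    (fun _ _ => rfl)
  · exact Finset.mem_filter.2 ⟨Finset.mem_univ _, (mem_Us_iff X).2 ⟨_, _, rfl⟩⟩
  · rw [← mk_tw_vz, ← mk_tw_vz] at h
    obtain ⟨h1, h2, h3⟩ := X.uu_inj (congrArg Subtype.val h)
    exact Prod.ext h1 (Prod.ext h2 h3)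
  · obtain ⟨t, p, e⟩ := (mem_Us_iff X).1 (Finset.mem_filter.1 hg).2
    exact ⟨(t, p), Finset.mem_univ _, e.symm⟩

/-- Three irreducible characters agreeing outside the conjugates of a torus missing the Borel subgroup have no
fixed points of the unipotent radical. -/
theorem sum_U_zero (A : Subgroup ↥X.G1) (hA : ∀ a ∈ A, a ≠ 1 → ∀ g : ↥X.G1, g⁻¹ * a * g ∉ X.Bs)
    (S : Finset (Cfsg.IrrCharacter ↥X.G1)) (hS : 3 ≤ S.card)
    (hoff : ∀ χ ∈ S, ∀ χ' ∈ S, ∀ g : ↥X.G1, (∀ x : ↥X.G1, x⁻¹ * g * x ∈ A → x⁻¹ * g * x = 1) →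
      (χ : ↥X.G1 → ℂ) g = (χ' : ↥X.G1 → ℂ) g)
    {χ : Cfsg.IrrCharacter ↥X.G1} (hχ : χ ∈ S) :
    ∑ t : K, ∑ p : K × K, (χ : ↥X.G1 → ℂ) (tw X t * vz X p) = 0 := by
  classical
  letI : Fintype ↥X.Bs := Fintype.ofFinite _
  let N : Subgroup ↥X.Bs := (Us X).subgroupOf X.Bs
  haveI hN : N.Normal := ⟨fun n hn g => Subgroup.mem_subgroupOf.2 (conj_Us X g.2 (Subgroup.mem_subgroupOf.1 hn))⟩
  have hrep : ∀ b : ↥X.Bs ⧸ N, ∃ s, b = QuotientGroup.mk ⟨hs X s, hs_mem_Bs X s⟩ := by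
    intro b
    induction b using QuotientGroup.induction_on with
    | H b =>
      obtain ⟨u, hu, s, e⟩ := Bs_cases X b.2
      refine ⟨s, QuotientGroup.eq.2 (Subgroup.mem_subgroupOf.2 ?_)⟩
      show (b : ↥X.G1)⁻¹ * hs X s ∈ Us X
      rw [e, show (u * hs X s)⁻¹ * hs X s = (hs X s)⁻¹ * u⁻¹ * hs X s by group]
      have := hs_conj_Us X s⁻¹ (inv_mem hu)
      rwa [map_inv, inv_inv] at this
  have hcomm : ∀ x y : ↥X.Bs ⧸ N, x * y = y * x := by
    intro x y
    obtain ⟨s, rfl⟩ := hrep x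
    obtain ⟨t, rfl⟩ := hrep y
    rw [← QuotientGroup.mk_mul, ← QuotientGroup.mk_mul]
    congr 1
    exact Subtype.ext (show hs X s * hs X t = hs X t * hs X s by rw [← map_mul, ← map_mul, mul_comm])
  letI : Fintype ((↥X.Bs ⧸ N) →* ℂˣ) := Fintype.ofFinite _
  have hval : ∀ μ : (↥X.Bs ⧸ N) →* ℂˣ,
      Cfsg.classInner (fun b : ↥X.Bs => (μ (QuotientGroup.mk b) : ℂ))
        (fun b : ↥X.Bs => (χ : ↥X.G1 → ℂ) b) = 0 := by
    intro μ
    set θ : ↥X.Bs → ℂ := fun b => (μ (QuotientGroup.mk b) : ℂ) with hθ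
    have hlin : Cfsg.IsIrrCharacter ↥X.Bs θ := isIrrCharacter_linear (μ.comp (QuotientGroup.mk' N))
    have hgen : Cfsg.IsGeneralizedCharacter ↥X.G1 (Cfsg.indFun X.Bs θ) :=
      IsGeneralizedCharacter.indFun (IsCharacter.isGeneralized (isCharacter_of_irr hlin))
    rw [← frobenius_reciprocity X.Bs θ (isClassFunction_irr χ)]
    set I := Cfsg.indFun X.Bs θ with hI
    have hoffI : ∀ g : ↥X.G1, ¬ (∀ x : ↥X.G1, x⁻¹ * g * x ∈ A → x⁻¹ * g * x = 1) → I g = 0 := by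
      intro g hg
      push Not at hg
      obtain ⟨x, hx, hx1⟩ := hg
      rw [hI, indFun_apply, Finset.sum_eq_zero (fun y _ => extendByZero_not_mem _ ?_), mul_zero]
      have := hA _ hx hx1 (x⁻¹ * y)
      rwa [show (x⁻¹ * y)⁻¹ * (x⁻¹ * g * x) * (x⁻¹ * y) = y⁻¹ * g * y by group] at this
    have heq : ∀ χ' ∈ S, Cfsg.classInner I (χ' : ↥X.G1 → ℂ) = Cfsg.classInner I (χ : ↥X.G1 → ℂ) := by
      intro χ' hχ'
      rw [classInner_def, classInner_def]
      congr 1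
      refine Finset.sum_congr rfl fun g _ => ?_
      by_cases hg : ∀ x : ↥X.G1, x⁻¹ * g * x ∈ A → x⁻¹ * g * x = 1
      · rw [hoff χ' hχ' χ hχ g hg]
      · rw [hoffI g hg, zero_mul, zero_mul]
    choose m hm using fun ψ : Cfsg.IrrCharacter ↥X.G1 => IsGeneralizedCharacter.exists_mult hgen ψ.2
    have hle : (Cfsg.classInner I I).re ≤ 2 := by
      rw [classInner_self, Complex.ofReal_re]
      have h2 := congrArg Complex.re (pc_norm X)
      rw [classInner_self, Complex.ofReal_re] at h2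
      simp only [Complex.re_ofNat] at h2
      refine le_trans (mul_le_mul_of_nonneg_left (Finset.sum_le_sum fun g _ => ?_) (by positivity)) h2.le
      gcongr
      rw [hI, pc_eq]
      refine norm_indFun_le X (fun b => le_of_eq ?_) g
      have : θ b ^ orderOf b = 1 := by
        rw [hθ]
        simp only
        rw [← Units.val_pow_eq_pow_val, ← map_pow, ← QuotientGroup.mk_pow, pow_orderOf_eq_one, QuotientGroup.mk_one,
          map_one, Units.val_one]
      exact Complex.norm_eq_one_of_pow_eq_one this (orderOf_pos b).ne'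
    have hexp := classFunction_expand (isClassFunction_indFun X.Bs θ)
    rw [← hI] at hexp
    have hsum : (Cfsg.classInner I I).re = ∑ ψ : Cfsg.IrrCharacter ↥X.G1, (m ψ : ℝ) ^ 2 := by
      rw [show I = ∑ ψ : Cfsg.IrrCharacter ↥X.G1, Cfsg.classInner I ψ • (ψ : ↥X.G1 → ℂ) from hexp,
        classInner_self_decomp, Complex.re_sum]
      exact Finset.sum_congr rfl fun ψ _ => by rw [hm ψ]; simp [sq]
    have h3 : ∑ ψ ∈ S, (m ψ : ℝ) ^ 2 ≤ 2 := le_trans
      (Finset.sum_le_sum_of_subset_of_nonneg (Finset.subset_univ S) fun ψ _ _ => sq_nonneg _) (hsum ▸ hle)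
    rw [Finset.sum_congr rfl (g := fun _ => (m χ : ℝ) ^ 2) fun ψ hψ => by
      have : (m ψ : ℂ) = m χ := by rw [← hm, ← hm]; exact heq ψ hψ
      rw [show m ψ = m χ by exact_mod_cast this], Finset.sum_const, nsmul_eq_mul] at h3
    rw [hm χ, Int.cast_eq_zero]
    by_contra hne
    have h4 : (1 : ℝ) ≤ (m χ : ℝ) ^ 2 := by
      have : (1 : ℤ) ≤ m χ ^ 2 := by
        rw [← sq_abs]; exact one_le_pow₀ (Int.one_le_abs hne)
      exact_mod_cast this
    have h5 : (3 : ℝ) ≤ S.card := by exact_mod_cast hS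
    nlinarith
  have hsum0 : ∑ b : ↥X.Bs, (∑ μ : (↥X.Bs ⧸ N) →* ℂˣ, (μ (QuotientGroup.mk b) : ℂ)) *
      conj ((χ : ↥X.G1 → ℂ) b) = 0 := by
    simp only [Finset.sum_mul]
    rw [Finset.sum_comm]
    refine Finset.sum_eq_zero fun μ _ => ?_
    have := hval μ
    rw [classInner_def] at this
    exact (mul_eq_zero.1 this).resolve_left (inv_ne_zero (by exact_mod_cast Nat.card_pos.ne'))
  have hμ : ∀ b : ↥X.Bs, ∑ μ : (↥X.Bs ⧸ N) →* ℂˣ, (μ (QuotientGroup.mk b) : ℂ) =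
      if (b : ↥X.G1) ∈ Us X then (Fintype.card ((↥X.Bs ⧸ N) →* ℂˣ) : ℂ) else 0 := by
    intro b
    split_ifs with hb
    · rw [(QuotientGroup.eq_one_iff b).2 (Subgroup.mem_subgroupOf.2 hb)]
      simp
    · exact Cfsg.Lib.OddChar.Zassenhaus.sum_hom_apply hcomm fun e =>
        hb (Subgroup.mem_subgroupOf.1 ((QuotientGroup.eq_one_iff b).1 e))
  simp only [hμ, ite_mul, zero_mul, ← Finset.sum_filter, ← Finset.mul_sum, ← map_sum] at hsum0
  have h6 : ∑ b ∈ Finset.univ.filter (fun b : ↥X.Bs => (b : ↥X.G1) ∈ Us X), (χ : ↥X.G1 → ℂ) b =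
      ∑ g ∈ Finset.univ.filter (· ∈ Us X), (χ : ↥X.G1 → ℂ) g :=
    Finset.sum_bij (fun b _ => (b : ↥X.G1)) (fun b hb => by simpa using hb) (fun a _ b _ h => Subtype.ext h)
      (fun g hg => ⟨⟨g, Us_le_Bs X (Finset.mem_filter.1 hg).2⟩, by simpa using (Finset.mem_filter.1 hg).2, rfl⟩)
      (fun _ _ => rfl)
  rw [h6, sum_Us] at hsum0
  have h7 : (Fintype.card ((↥X.Bs ⧸ N) →* ℂˣ) : ℂ) ≠ 0 := by exact_mod_cast Fintype.card_ne_zero
  exact (map_eq_zero _).1 ((mul_eq_zero.1 hsum0).resolve_left h7)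

end Cfsg.Lib.ReeCover
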