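import Cfsg.Agent.Chev.GTwoOdd.ReeS.Cover.Fourier
import Cfsg.Agent.Chars.Sums
import Cfsg.Agent.Chars.Count
import Cfsg.Agent.Chars.Real

/-!
# Class multiplication sums at a real element and the irreducible characters of a small Ree group
-/

set_option autoImplicit false
set_option linter.dupNamespace false
set_option linter.unusedSectionVars false
set_option linter.style.haveILetI false

open Finset
open scoped ComplexConjugate

namespace Cfsg.Lib.ReeCover

open Cfsg.Lib.Chars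

section General

universe u
variable {G : Type u} [Group G] [Fintype G]

/-- The principal character. -/
noncomputable def one' (G : Type u) [Group G] : Cfsg.IrrCharacter G := ⟨fun _ => 1, isIrrCharacter_one⟩

omit [Fintype G] in
theorem one'_apply (g : G) : (one' G : G → ℂ) g = 1 := rfl

/-- The square of a value at a real element. -/
noncomputable def wt (x : G) (χ : Cfsg.IrrCharacter G) : ℝ := ((χ : G → ℂ) x).re ^ 2

/-- The summand of the class multiplication sum. -/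
noncomputable def tm (x g : G) (χ : Cfsg.IrrCharacter G) : ℝ :=
  wt x χ * ((χ : G → ℂ) g).re / (deg (χ : G → ℂ) : ℝ)

theorem wt_nonneg (x : G) (χ : Cfsg.IrrCharacter G) : 0 ≤ wt x χ := sq_nonneg _

theorem val_real {x : G} (hx : IsConj x x⁻¹) (χ : Cfsg.IrrCharacter G) :
    ((χ : G → ℂ) x).im = 0 := by
  rw [← Complex.conj_eq_iff_im, ← IsCharacter.conj_inv (isCharacter_of_irr χ.2)]
  exact (classFunction_eq_of_isConj (isClassFunction_irr χ) hx).symm

theorem norm_sq_real {x : G} (hx : IsConj x x⁻¹) (χ : Cfsg.IrrCharacter G) :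
    ‖(χ : G → ℂ) x‖ ^ 2 = wt x χ := by
  rw [← Complex.normSq_eq_norm_sq, Complex.normSq_apply, val_real hx χ, wt, sq]
  ring

theorem sum_wt {x : G} (hx : IsConj x x⁻¹) :
    ∑ χ : Cfsg.IrrCharacter G, wt x χ = (Nat.card (Subgroup.centralizer ({x} : Set G)) : ℝ) := by
  rw [← sum_norm_sq_irr x]
  exact Finset.sum_congr rfl fun χ _ => (norm_sq_real hx χ).symm

theorem wt_one (x : G) : wt x (one' G) = 1 := by simp [wt, one'_apply]

theorem deg_one : (deg (one' G : G → ℂ) : ℝ) = 1 := by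
  have h : ((deg (one' G : G → ℂ) : ℕ) : ℂ) = 1 := (irr_apply_one_eq_deg (one' G)).symm
  exact_mod_cast h

theorem tm_one (x g : G) : tm x g (one' G) = 1 := by
  rw [tm, wt_one, deg_one, one'_apply]; simp

theorem deg_pos (χ : Cfsg.IrrCharacter G) : (0 : ℝ) < (deg (χ : G → ℂ) : ℝ) := by
  exact_mod_cast deg_irr_pos χ

/-- If the class multiplication sum is positive then `g` is a product of two conjugates of `x`. -/
theorem exists_prod {x g : G} (hx : IsConj x x⁻¹) (h : 0 < ∑ χ : Cfsg.IrrCharacter G, tm x g χ) :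
    ∃ u v : G, g = (u * x * u⁻¹) * (v * x * v⁻¹) := by
  by_contra hno
  have hempty : IsEmpty {p : G × G // IsConj x p.1 ∧ IsConj x p.2 ∧ p.1 * p.2 = g} := by
    refine ⟨fun ⟨p, h1, h2, h3⟩ => ?_⟩
    obtain ⟨u, hu⟩ := isConj_iff.1 h1
    obtain ⟨v, hv⟩ := isConj_iff.1 h2
    exact hno ⟨u, v, by rw [hu, hv, h3]⟩
  have hf := class_mult_formula x x g
  rw [Nat.card_of_isEmpty, Nat.cast_zero] at hf
  have hc : (Nat.card {y : G // IsConj x y} : ℂ) ≠ 0 := by exact_mod_cast (card_isConj_pos x).ne'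
  have hG : (Nat.card G : ℂ) ≠ 0 := by exact_mod_cast Nat.card_pos.ne'
  have h0 := (mul_eq_zero.1 hf.symm).resolve_left (div_ne_zero (mul_ne_zero hc hc) hG)
  have h1 := congrArg Complex.re h0
  rw [Complex.re_sum, Complex.zero_re] at h1
  have h2 : ∀ χ : Cfsg.IrrCharacter G,
      ((χ : G → ℂ) x * (χ : G → ℂ) x * conj ((χ : G → ℂ) g) / (χ : G → ℂ) 1).re = tm x g χ := by
    intro χ
    rw [irr_apply_one_eq_deg, Complex.div_natCast_re, tm, wt]
    congr 1
    simp [Complex.mul_re, val_real hx χ, sq]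
  rw [Finset.sum_congr rfl fun χ _ => h2 χ] at h1
  linarith

/-- Crude criterion: all non-principal degrees are large. -/
theorem exists_prod_of_small {x g : G} (hx : IsConj x x⁻¹) {d₀ a b : ℝ} (hd : 0 < d₀) (hb : 0 ≤ b)
    (hdeg : ∀ χ : Cfsg.IrrCharacter G, χ ≠ one' G → d₀ ≤ (deg (χ : G → ℂ) : ℝ))
    (ha : (Nat.card (Subgroup.centralizer ({x} : Set G)) : ℝ) ≤ a)
    (hg : (Nat.card (Subgroup.centralizer ({g} : Set G)) : ℝ) ≤ b ^ 2) (hlt : a * b < d₀) :
    ∃ u v : G, g = (u * x * u⁻¹) * (v * x * v⁻¹) := by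
  classical
  refine exists_prod hx ?_
  rw [← Finset.add_sum_erase Finset.univ _ (Finset.mem_univ (one' G)), tm_one]
  have hbound : ∀ χ ∈ Finset.univ.erase (one' G), -(wt x χ * b / d₀) ≤ tm x g χ := by
    intro χ hχ
    have hd' := hdeg χ (Finset.mem_erase.1 hχ).1
    have h1 : |((χ : G → ℂ) g).re| ≤ b := by
      refine (Complex.abs_re_le_norm _).trans (abs_le_of_sq_le_sq' ?_ hb).2
      refine le_trans ?_ hg
      rw [← sum_norm_sq_irr g]
      exact Finset.single_le_sum (f := fun χ : Cfsg.IrrCharacter G => ‖(χ : G → ℂ) g‖ ^ 2)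
        (fun _ _ => sq_nonneg _) (Finset.mem_univ χ)
    have hw := wt_nonneg x χ
    rw [tm, ← neg_div, div_le_div_iff₀ hd (deg_pos χ)]
    have h2 : -b ≤ ((χ : G → ℂ) g).re := (abs_le.1 h1).1
    calc -(wt x χ * b) * (deg (χ : G → ℂ) : ℝ) ≤ -(wt x χ * b) * d₀ :=
          mul_le_mul_of_nonpos_left hd' (by nlinarith)
      _ ≤ wt x χ * ((χ : G → ℂ) g).re * d₀ := by
          refine mul_le_mul_of_nonneg_right ?_ hd.le
          nlinarith
  have h3 := Finset.sum_le_sum hbound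
  have h4 : ∑ χ ∈ Finset.univ.erase (one' G), wt x χ ≤ a := by
    refine le_trans ?_ ha
    rw [← sum_wt hx]
    exact Finset.sum_le_sum_of_subset_of_nonneg (Finset.erase_subset _ _) fun χ _ _ => wt_nonneg x χ
  rw [Finset.sum_neg_distrib, ← Finset.sum_div, ← Finset.sum_mul] at h3
  have h5 : (∑ χ ∈ Finset.univ.erase (one' G), wt x χ) * b / d₀ < 1 := by
    rw [div_lt_one hd]
    exact lt_of_le_of_lt (mul_le_mul_of_nonneg_right h4 hb) hlt
  linarith

end General

section Ree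

open Cfsg.Lib.Chev
open Cfsg.Lib.Chev.Ree (Ree)
open Cfsg.Lib.ReeStruct

variable {K : Type*} [Field K] [Fintype K] (X : Ree K)

/-- A representation affording an irreducible character. -/
noncomputable def repn (χ : Cfsg.IrrCharacter ↥X.G1) : ↥X.G1 →* Module.End ℂ (Fin χ.2.choose → ℂ) :=
  χ.2.choose_spec.choose

theorem repn_trace (χ : Cfsg.IrrCharacter ↥X.G1) (g : ↥X.G1) :
    LinearMap.trace ℂ (Fin χ.2.choose → ℂ) (repn X χ g) = (χ : ↥X.G1 → ℂ) g :=
  congrFun χ.2.choose_spec.choose_spec.2 g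

/-- The dimension of the fixed space of the centre. -/
noncomputable def nc (χ : Cfsg.IrrCharacter ↥X.G1) : ℕ := nz X (repn X χ)

/-- The multiplicity of each non-trivial central character. -/
noncomputable def kc (χ : Cfsg.IrrCharacter ↥X.G1) : ℕ := kz X (repn X χ)

theorem deg_eq (χ : Cfsg.IrrCharacter ↥X.G1) : (deg (χ : ↥X.G1 → ℂ) : ℕ) =
    nc X χ + Fintype.card K * (Fintype.card K - 1) * kc X χ := by
  have h1 := repn_trace X χ 1
  rw [map_one, LinearMap.trace_one, finrank_eq X (repn X χ), irr_apply_one_eq_deg] at h1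
  exact_mod_cast h1.symm

theorem deg_eq_real (χ : Cfsg.IrrCharacter ↥X.G1) : (deg (χ : ↥X.G1 → ℂ) : ℝ) =
    (nc X χ : ℝ) + (Fintype.card K : ℝ) * ((Fintype.card K : ℝ) - 1) * kc X χ := by
  rw [deg_eq X χ, Nat.cast_add, Nat.cast_mul, Nat.cast_mul, Nat.cast_sub Fintype.card_pos, Nat.cast_one]

theorem val_z (χ : Cfsg.IrrCharacter ↥X.G1) {c : K} (hc : c ≠ 0) :
    (χ : ↥X.G1 → ℂ) (vz X (0, c)) = (nc X χ : ℂ) - (Fintype.card K : ℂ) * kc X χ := by
  rw [← repn_trace]; exact trace_z X _ hc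

theorem re_val_t (χ : Cfsg.IrrCharacter ↥X.G1) {b : K} (hb : b ≠ 0) (c : K) :
    -(nc X χ : ℝ) ≤ ((Fintype.card K : ℝ) - 1) * ((χ : ↥X.G1 → ℂ) (vz X (b, c))).re := by
  rw [← repn_trace]; exact re_trace_t X _ hb c

theorem kc_pos (hm : 1 ≤ X.m) {χ : Cfsg.IrrCharacter ↥X.G1} (hχ : χ ≠ one' _) : 1 ≤ kc X χ := by
  letI : Fintype ↥X.G1 := Fintype.ofFinite _
  haveI := (X.simple hm).1
  refine Nat.one_le_iff_ne_zero.2 (dd_ne_zero X (repn X χ) ?_)
  rw [← MonoidHom.ker_eq_bot_iff]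
  refine (MonoidHom.normal_ker _).eq_bot_or_eq_top.resolve_right fun h => ?_
  have hall : ∀ g, (χ : ↥X.G1 → ℂ) g = (χ : ↥X.G1 → ℂ) 1 := fun g => by
    rw [← repn_trace X χ g, ← repn_trace X χ 1, map_one,
      show repn X χ g = 1 from MonoidHom.mem_ker.1 (h ▸ Subgroup.mem_top g)]
  have h1 := classInner_irr_ne hχ
  have hG : (Nat.card ↥X.G1 : ℂ) ≠ 0 := by exact_mod_cast Nat.card_pos.ne'
  rw [classInner_def] at h1
  simp only [one'_apply, map_one, mul_one, hall, Finset.sum_const, Finset.card_univ, nsmul_eq_mul] at h1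
  rw [← Nat.card_eq_fintype_card, ← mul_assoc, inv_mul_cancel₀ hG, one_mul] at h1
  exact IsIrrCharacter.apply_one_ne_zero χ.2 h1

theorem deg_min (hm : 1 ≤ X.m) {χ : Cfsg.IrrCharacter ↥X.G1} (hχ : χ ≠ one' _) :
    (Fintype.card K : ℝ) * ((Fintype.card K : ℝ) - 1) ≤ (deg (χ : ↥X.G1 → ℂ) : ℝ) := by
  rw [deg_eq_real X χ]
  have h1 : (1 : ℝ) ≤ kc X χ := by exact_mod_cast kc_pos X hm hχ
  have h2 : (1 : ℝ) ≤ (Fintype.card K : ℝ) := by exact_mod_cast Fintype.card_pos
  have h3 : (0 : ℝ) ≤ (nc X χ : ℝ) := Nat.cast_nonneg _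
  nlinarith [mul_nonneg (show (0 : ℝ) ≤ (Fintype.card K : ℝ) by linarith) (show (0 : ℝ) ≤ (Fintype.card K : ℝ) - 1 by linarith)]

theorem two_nc (χ : Cfsg.IrrCharacter ↥X.G1)
    (h : ∑ t : K, ∑ p : K × K, (χ : ↥X.G1 → ℂ) (tw X t * vz X p) = 0) :
    ∃ N : ℤ, 2 * (nc X χ : ℤ) = ((Fintype.card K : ℤ) - 1) * N := by
  obtain ⟨j, hj⟩ := dd_zero_dvd X (repn X χ) (by simpa only [repn_trace] using h)
  refine ⟨2 * j + ((dd X (repn X χ) (1, 0) : ℤ) + dd X (repn X χ) (-1, 0)), ?_⟩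
  have h2 : (2 * nc X χ : ℕ) = _ := two_nz X (repn X χ)
  have h3 := congrArg (fun n : ℕ => (n : ℤ)) h2
  simp only [Nat.cast_add, Nat.cast_mul, Nat.cast_ofNat, Nat.cast_sub (Fintype.card_pos (α := K)), Nat.cast_one] at h3
  rw [h3, hj]
  ring

end Ree

end Cfsg.Lib.ReeCover
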