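import Cfsg.Agent.Chev.GTwoOdd.ReeS.Cover.Cent
import Cfsg.Agent.Chev.GTwoOdd.ReeS.Cover.Exc

/-!
# The exceptional characters of the two tori of order `q ± 3^(m+1) + 1`

They have central multiplicity at least six.
-/

set_option autoImplicit false
set_option linter.dupNamespace false
set_option linter.unusedSectionVars false
set_option linter.style.haveILetI false

open Finset

namespace Cfsg.Lib.ReeCover

open Cfsg.Lib.Chars
open Cfsg.Lib.Chev
open Cfsg.Lib.Chev.Ree (Ree SG)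
open Cfsg.Lib.ReeStruct
open Cfsg.Lib.GTwoOdd.ReeInv (hv)

universe u
variable {K : Type u} [Field K] [Fintype K] (X : Ree K) [Fintype ↥X.G1]

theorem e_ge (hm : 1 ≤ X.m) : X.e = 3 ∨ X.e = 9 ∨ 27 ≤ X.e := by
  show 3 ^ X.m = 3 ∨ 3 ^ X.m = 9 ∨ 27 ≤ 3 ^ X.m
  rcases (show X.m = 1 ∨ X.m = 2 ∨ 3 ≤ X.m by omega) with h | h | h
  · left; rw [h]; rfl
  · right; left; rw [h]; rfl
  · right; right; exact le_trans (by norm_num) (Nat.pow_le_pow_right (by norm_num : 0 < 3) h)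

theorem e_three (hm : 1 ≤ X.m) : 3 ≤ X.e := by
  have := e_ge X hm
  omega

theorem lo_int : (lo X : ℤ) = (Fintype.card K : ℤ) + 1 - 3 * X.e := by
  have := three_e_le X
  rw [lo, Nat.cast_sub (by omega)]
  push_cast; ring

theorem hi_int : (hi X : ℤ) = (Fintype.card K : ℤ) + 1 + 3 * X.e := by
  rw [hi]; push_cast; ring

theorem odd_tor {a : ℕ} (ha : a = lo X ∨ a = hi X) : Odd a := by
  have h1 : Odd X.e := Odd.pow (by decide)
  have h2 : Odd (Fintype.card K) := by rw [X.hK]; exact Odd.pow (by decide)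
  have := three_e_le X
  obtain ⟨i, hi'⟩ := h1
  obtain ⟨j, hj⟩ := h2
  rcases ha with rfl | rfl
  · exact ⟨j - 3 * i - 1, by rw [lo]; omega⟩
  · exact ⟨j + 3 * i + 2, by rw [hi]; omega⟩

theorem tor_ge (hm : 1 ≤ X.m) {a : ℕ} (ha : a = lo X ∨ a = hi X) : 13 ≤ a := by
  have h3 := e_three X hm
  have hq := q_eq X
  have h1 : 3 * X.e * X.e ≥ 3 * X.e * 3 := Nat.mul_le_mul_left _ h3
  have h2 : 3 * X.e ^ 2 = 3 * X.e * X.e := by ring
  rcases ha with rfl | rfl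
  · rw [lo]; omega
  · rw [hi]; omega

theorem orderOf_tor {A : Subgroup ↥X.G1} {a : ℕ} (hA : IsTor X A a) (ha : a = lo X ∨ a = hi X) {y : ↥X.G1}
    (hy : y ∈ A) : orderOf y ∣ NN X := by
  refine (Subgroup.orderOf_dvd_natCard A hy).trans ?_
  rw [hA.card, ← lo_mul_hi X]
  rcases ha with rfl | rfl
  · exact dvd_mul_right _ _
  · exact dvd_mul_left _ _

theorem tor_off_Bs {A : Subgroup ↥X.G1} {a : ℕ} (hA : IsTor X A a) (ha : a = lo X ∨ a = hi X) :
    ∀ y ∈ A, y ≠ 1 → ∀ g : ↥X.G1, g⁻¹ * y * g ∉ X.Bs := by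
  intro y hy hy1
  have hd := orderOf_tor X hA ha hy
  have h1 : orderOf y ≠ 1 := fun e => hy1 (orderOf_eq_one_iff.1 e)
  have h2 : ¬ 2 ∣ orderOf y := fun h => not_dvd_NN X Nat.prime_two
    (Or.inl (by have := q_mod X; omega)) (h.trans hd)
  have h3 : ¬ 3 ∣ orderOf y := fun h => by
    have h27 : 3 ∣ NN X := h.trans hd
    have hq : 3 ∣ Fintype.card K := by rw [X.hK]; exact dvd_pow_self 3 (by omega)
    have hc := cube_succ X
    have : 3 ∣ Fintype.card K ^ 3 + 1 := hc ▸ h27.mul_left _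
    have h3' : 3 ∣ Fintype.card K ^ 3 := hq.trans (dvd_pow_self _ (by norm_num))
    omega
  exact not_mem_Bs X (by have := orderOf_pos y; omega) h3 (Or.inr hd)

/-- What is needed about the exceptional characters of a torus. -/
structure Fam (A : Subgroup ↥X.G1) (a : ℕ) (S : Finset (Cfsg.IrrCharacter ↥X.G1)) : Prop where
  card : 6 * S.card + 1 = a
  agree : ∀ χ ∈ S, ∀ χ' ∈ S, ∀ g : ↥X.G1, (∀ x : ↥X.G1, x⁻¹ * g * x ∈ A → x⁻¹ * g * x = 1) →
    (χ : ↥X.G1 → ℂ) g = (χ' : ↥X.G1 → ℂ) g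
  const : ∀ χ, χ ∉ S → ∃ c : ℤ, ∀ y ∈ A, y ≠ 1 → (χ : ↥X.G1 → ℂ) y = c
  nonconst : ∀ χ ∈ S, ∀ c : ℂ, ∃ y ∈ A, y ≠ 1 ∧ (χ : ↥X.G1 → ℂ) y ≠ c
  sep : ∀ χ ∈ S, ∀ χ' ∈ S, χ ≠ χ' → ∃ y ∈ A, y ≠ 1 ∧ (χ : ↥X.G1 → ℂ) y ≠ (χ' : ↥X.G1 → ℂ) y
  weight : ∀ y ∈ A, y ≠ 1 → (a : ℝ) - 6 ≤ ∑ χ ∈ S, Complex.normSq ((χ : ↥X.G1 → ℂ) y)
  degree : ∃ s c : ℤ, (s = 1 ∨ s = -1) ∧ (S.card : ℤ) * c * c - 2 * s * c ≤ 4 ∧
    ∀ χ ∈ S, (a : ℤ) ∣ (deg (χ : ↥X.G1 → ℂ) : ℤ) - c - 6 * s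

theorem st_at_tor {A : Subgroup ↥X.G1} {a : ℕ} (hA : IsTor X A a) (ha : a = lo X ∨ a = hi X)
    {st : Cfsg.IrrCharacter ↥X.G1} (hst : ∀ g, (st : ↥X.G1 → ℂ) g = pc X g - 1) {y : ↥X.G1} (hy : y ∈ A)
    (hy1 : y ≠ 1) : (st : ↥X.G1 → ℂ) y = -1 := by
  rw [hst, pc_off X (tor_off_Bs X hA ha y hy hy1), zero_sub]

theorem exists_fam (hm : 1 ≤ X.m) {A : Subgroup ↥X.G1} {a : ℕ} (hA : IsTor X A a) (ha : a = lo X ∨ a = hi X) :
    ∃ S : Finset (Cfsg.IrrCharacter ↥X.G1), Fam X A a S := by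
  classical
  letI : Fintype A := Fintype.ofFinite _
  letI : Fintype ↥(Subgroup.normalizer (A : Set ↥X.G1)) := Fintype.ofFinite _
  letI : Fintype (A →* ℂˣ) := Fintype.ofFinite _
  have h13 := tor_ge X hm ha
  have he : (A.subgroupOf (Subgroup.normalizer (A : Set ↥X.G1))).index = 6 := by
    have h := Subgroup.card_mul_index (A.subgroupOf (Subgroup.normalizer (A : Set ↥X.G1)))
    rw [Nat.card_congr (Subgroup.subgroupOfEquivOfLe Subgroup.le_normalizer).toEquiv, hA.card, hA.norm] at h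
    exact Nat.eq_of_mul_eq_mul_left (by omega : 0 < a) (h.trans (mul_comm _ _))
  obtain ⟨S, h1, h2, h3, h4, h5, s, c, hs', hdeg, hsum⟩ :=
    exists_exceptional hA.cent he (by rw [hA.card]; omega)
  rw [hA.card] at h1
  obtain ⟨y₀, hy₀, hy₀1⟩ : ∃ y ∈ A, y ≠ (1 : ↥X.G1) := by
    by_contra h
    push Not at h
    have : A = ⊥ := (Subgroup.eq_bot_iff_forall _).2 h
    have hc := hA.card
    rw [this, Subgroup.card_bot] at hc
    omega
  have hwsum := hsum y₀ hy₀ hy₀1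
  have hbnd : (S.card : ℤ) * c * c - 2 * s * c ≤ 4 := by
    obtain ⟨st, hst1, hst⟩ := exists_st X
    have hone : one' _ ∉ S := fun h => by
      obtain ⟨y, -, -, hy⟩ := h4 _ h 1
      exact hy (one'_apply y)
    have hstS : st ∉ S := fun h => by
      obtain ⟨y, hy, hy1, hne⟩ := h4 _ h (-1)
      exact hne (st_at_tor X hA ha hst hy hy1)
    have hall := sum_norm_sq_irr y₀
    rw [hA.cent y₀ hy₀ hy₀1, hA.card] at hall
    have hle : ∑ χ ∈ insert (one' _) (insert st S), ‖(χ : ↥X.G1 → ℂ) y₀‖ ^ 2 ≤ (a : ℝ) :=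
      hall ▸ Finset.sum_le_sum_of_subset_of_nonneg (Finset.subset_univ _) fun _ _ _ => sq_nonneg _
    rw [Finset.sum_insert (by simp [Ne.symm hst1, hone]), Finset.sum_insert hstS, one'_apply,
      st_at_tor X hA ha hst hy₀ hy₀1, Finset.sum_congr rfl fun χ _ => (Complex.normSq_eq_norm_sq _).symm, hwsum,
      norm_one, norm_neg, norm_one, hA.card] at hle
    have : (((S.card : ℤ) * c * c - 2 * s * c : ℤ) : ℝ) ≤ ((4 : ℤ) : ℝ) := by push_cast at hle ⊢; linarith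
    exact_mod_cast this
  refine ⟨S, h1, h2, h3, h4, h5, fun y hy hy1 => ?_, s, c, hs', hbnd, fun χ hχ => ?_⟩
  · rw [hsum y hy hy1, hA.card]
    have hnn : (0 : ℤ) ≤ (S.card : ℤ) * c * c - 2 * s * c := by
      have hS2 : (2 : ℤ) ≤ S.card := by omega
      have hcc : c ≤ c * c ∧ -c ≤ c * c := by
        refine ⟨Int.le_self_sq c |>.trans (le_of_eq (sq c)), ?_⟩
        calc -c ≤ (-c) ^ 2 := Int.le_self_sq _
          _ = c * c := by ring
      rcases hs' with rfl | rfl <;> nlinarith [hcc.1, hcc.2, mul_self_nonneg c]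
    have : (0 : ℝ) ≤ (((S.card : ℤ) * c * c - 2 * s * c : ℤ) : ℝ) := by exact_mod_cast hnn
    push_cast at this ⊢
    linarith
  · obtain ⟨M, hM⟩ := hdeg χ hχ
    rw [irr_apply_one_eq_deg, hA.card] at hM
    have hM' : ((deg (χ : ↥X.G1 → ℂ) : ℤ) : ℂ) = ((c + s * 6 + (a : ℤ) * M : ℤ) : ℂ) := by
      rw [Int.cast_natCast]; simpa using hM
    exact ⟨M, by rw [Int.cast_inj.1 hM']; ring⟩

variable {X}
variable {A : Subgroup ↥X.G1} {a : ℕ} {S : Finset (Cfsg.IrrCharacter ↥X.G1)}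

theorem Fam.one_notMem (h : Fam X A a S) : one' _ ∉ S := fun h' => by
  obtain ⟨y, -, -, hy⟩ := h.nonconst _ h' 1
  exact hy (one'_apply y)

theorem Fam.st_notMem (h : Fam X A a S) (hA : IsTor X A a) (ha : a = lo X ∨ a = hi X)
    {st : Cfsg.IrrCharacter ↥X.G1} (hst : ∀ g, (st : ↥X.G1 → ℂ) g = pc X g - 1) : st ∉ S := fun h' => by
  obtain ⟨y, hy, hy1, hne⟩ := h.nonconst _ h' (-1)
  exact hne (st_at_tor X hA ha hst hy hy1)

/-- Off the torus the common value is bounded by the centraliser order. -/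
theorem Fam.sq_le (h : Fam X A a S) {g : ↥X.G1} (hg : ∀ x : ↥X.G1, x⁻¹ * g * x ∈ A → x⁻¹ * g * x = 1)
    {χ : Cfsg.IrrCharacter ↥X.G1} (hχ : χ ∈ S) :
    (S.card : ℝ) * ‖(χ : ↥X.G1 → ℂ) g‖ ^ 2 ≤ (Nat.card (Subgroup.centralizer ({g} : Set ↥X.G1)) : ℝ) := by
  rw [← sum_norm_sq_irr g, ← nsmul_eq_mul, ← Finset.sum_const]
  refine le_trans (le_of_eq (Finset.sum_congr rfl fun χ' hχ' => ?_))
    (Finset.sum_le_sum_of_subset_of_nonneg (Finset.subset_univ S) fun _ _ _ => sq_nonneg _)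
  rw [h.agree χ hχ χ' hχ' g hg]

theorem off_tor_of_order (hA : IsTor X A a) (ha : a = lo X ∨ a = hi X) {g : ↥X.G1} {d : ℕ} (hd : d ∣ 6)
    (hg : g ^ d = 1) : ∀ x : ↥X.G1, x⁻¹ * g * x ∈ A → x⁻¹ * g * x = 1 := by
  intro x hx
  by_contra hne
  have h6 : (x⁻¹ * g * x) ^ 6 = 1 := by
    obtain ⟨j, hj⟩ := hd
    rw [show x⁻¹ * g * x = MulAut.conj x⁻¹ g by simp, ← map_pow, hj, pow_mul, hg, one_pow, map_one]
  have ho := orderOf_dvd_of_pow_eq_one h6
  have hBs := tor_off_Bs X hA ha _ hx hne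
  have hN := orderOf_tor X hA ha hx
  obtain ⟨ℓ, hℓ, hℓd⟩ := Nat.exists_prime_and_dvd (fun e => hne (orderOf_eq_one_iff.1 e))
  have hℓ6 := hℓd.trans ho
  have hℓle : ℓ ≤ 6 := Nat.le_of_dvd (by norm_num) hℓ6
  interval_cases ℓ <;> first | omega | (norm_num at hℓ)
  · exact not_dvd_NN X Nat.prime_two (Or.inl (by have := q_mod X; omega)) (hℓd.trans hN)
  · have h27 : 3 ∣ NN X := hℓd.trans hN
    have hq : 3 ∣ Fintype.card K := by rw [X.hK]; exact dvd_pow_self 3 (by omega)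
    have hc := cube_succ X
    have : 3 ∣ Fintype.card K ^ 3 + 1 := hc ▸ h27.mul_left _
    have h3' : 3 ∣ Fintype.card K ^ 3 := hq.trans (dvd_pow_self _ (by norm_num))
    omega

theorem off_tor_z (hA : IsTor X A a) (ha : a = lo X ∨ a = hi X) (p : K × K) :
    ∀ x : ↥X.G1, x⁻¹ * vz X p * x ∈ A → x⁻¹ * vz X p * x = 1 :=
  off_tor_of_order hA ha (d := 3) (by norm_num) (cube_vz X p)

theorem off_tor_hv (hA : IsTor X A a) (ha : a = lo X ∨ a = hi X) :
    ∀ x : ↥X.G1, x⁻¹ * hv X * x ∈ A → x⁻¹ * hv X * x = 1 :=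
  off_tor_of_order hA ha (d := 2) (by norm_num) (by rw [pow_two]; exact Cfsg.Lib.GTwoOdd.ReeInv.hv_sq X)

/-- The degree data of a member of a family. -/
theorem Fam.data (h : Fam X A a S) (hm : 1 ≤ X.m) (hA : IsTor X A a) (ha : a = lo X ∨ a = hi X)
    {χ : Cfsg.IrrCharacter ↥X.G1} (hχ : χ ∈ S) :
    (S.card : ℝ) * ((nc X χ : ℝ) - Fintype.card K * kc X χ) ^ 2 ≤ (Fintype.card K : ℝ) ^ 3 ∧
      ∃ N : ℕ, 2 * (nc X χ : ℤ) = ((Fintype.card K : ℤ) - 1) * N := by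
  constructor
  · have h1 := h.sq_le (g := vz X (0, 1)) (off_tor_z hA ha _) hχ
    rw [val_z X χ one_ne_zero] at h1
    have e : ‖(nc X χ : ℂ) - (Fintype.card K : ℂ) * (kc X χ : ℂ)‖ ^ 2 =
        ((nc X χ : ℝ) - Fintype.card K * kc X χ) ^ 2 := by
      rw [show (nc X χ : ℂ) - (Fintype.card K : ℂ) * (kc X χ : ℂ) =
        (((nc X χ : ℝ) - Fintype.card K * kc X χ : ℝ) : ℂ) by push_cast; rfl, Complex.norm_real, Real.norm_eq_abs,
        sq_abs]
    rw [e] at h1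
    refine h1.trans ?_
    exact_mod_cast card_cent_z X one_ne_zero
  · have h13 := tor_ge X hm ha
    have hE : 3 ≤ S.card := by
      have hc := h.card
      have : X.e = 3 ∨ X.e = 9 ∨ 27 ≤ X.e := e_ge X hm
      have hq := q_eq X
      have h3 := e_three X hm
      have h1 : 3 * X.e * X.e ≥ 3 * X.e * 3 := Nat.mul_le_mul_left _ h3
      have h2 : 3 * X.e ^ 2 = 3 * X.e * X.e := by ring
      rcases ha with rfl | rfl
      · rw [lo] at hc; omega
      · rw [hi] at hc; omega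
    obtain ⟨N, hN⟩ := two_nc X χ (sum_U_zero X A (tor_off_Bs X hA ha) S hE h.agree hχ)
    have hq1 : (1 : ℤ) < Fintype.card K := by exact_mod_cast Fintype.one_lt_card
    have hN0 : 0 ≤ N := by
      by_contra hneg
      push Not at hneg
      have : 0 ≤ (nc X χ : ℤ) := Int.natCast_nonneg _
      nlinarith
    exact ⟨N.toNat, by rw [Int.toNat_of_nonneg hN0]; exact hN⟩

theorem abs_le_of {E B d : ℝ} (hE : 0 < E) (hB : 0 ≤ B) (h : E * d ^ 2 ≤ E * B ^ 2) : -B ≤ d ∧ d ≤ B :=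
  abs_le_of_sq_le_sq' (le_of_mul_le_mul_left h hE) hB

theorem Fam.card_ge (h : Fam X A a S) (hm : 1 ≤ X.m) (ha : a = lo X ∨ a = hi X) :
    (Fintype.card K : ℤ) - 3 * X.e ≤ 6 * S.card ∧ 3 ≤ S.card := by
  have hc := congrArg (fun n : ℕ => (n : ℤ)) h.card
  push_cast at hc
  have hq : (Fintype.card K : ℤ) = 3 * (X.e : ℤ) ^ 2 := by exact_mod_cast q_eq X
  have h3 : (3 : ℤ) ≤ X.e := by exact_mod_cast e_three X hm
  rcases ha with rfl | rfl
  · rw [lo_int] at hc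
    refine ⟨by linarith, ?_⟩
    have : (18 : ℤ) ≤ 6 * S.card := by nlinarith
    omega
  · rw [hi_int] at hc
    refine ⟨by linarith, ?_⟩
    have : (18 : ℤ) ≤ 6 * S.card := by nlinarith
    omega

/-- The difference between `n` and `q k` is at most `3 q`. -/
theorem Fam.diff_le (h : Fam X A a S) (hm : 1 ≤ X.m) (hA : IsTor X A a) (ha : a = lo X ∨ a = hi X)
    {χ : Cfsg.IrrCharacter ↥X.G1} (hχ : χ ∈ S) :
    -(3 * (Fintype.card K : ℝ)) ≤ (nc X χ : ℝ) - Fintype.card K * kc X χ ∧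
      (nc X χ : ℝ) - Fintype.card K * kc X χ ≤ 3 * (Fintype.card K : ℝ) := by
  obtain ⟨hge, hS⟩ := h.card_ge hm ha
  have hS0 : (0 : ℝ) < (S.card : ℝ) := by exact_mod_cast (show 0 < S.card by omega)
  refine abs_le_of hS0 (by positivity) ((h.data hm hA ha hχ).1.trans ?_)
  have hq : (Fintype.card K : ℝ) = 3 * (X.e : ℝ) ^ 2 := by exact_mod_cast q_eq X
  have h3 : (3 : ℝ) ≤ X.e := by exact_mod_cast e_three X hm
  have hge' : (Fintype.card K : ℝ) - 3 * X.e ≤ 6 * S.card := by exact_mod_cast hge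
  have hq0 : (0 : ℝ) ≤ Fintype.card K := Nat.cast_nonneg _
  have : 2 * (Fintype.card K : ℝ) ≤ 18 * S.card := by nlinarith
  nlinarith [mul_le_mul_of_nonneg_right this (sq_nonneg (Fintype.card K : ℝ))]

theorem exists_other_value {B : Subgroup ↥X.G1} {b : ℕ} {S' : Finset (Cfsg.IrrCharacter ↥X.G1)}
    (hA : IsTor X A a) (hB : IsTor X B b) (hab : Nat.Coprime a b) (hS : Fam X A a S) (hS' : Fam X B b S')
    (h3 : 3 ≤ S.card) {χ : Cfsg.IrrCharacter ↥X.G1} (hχ : χ ∈ S) (hb1 : 1 < b) :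
    ∃ c' : ℤ, (S.card : ℤ) * c' ^ 2 + 0 ≤ 6 ∧ (b : ℤ) ∣ (deg (χ : ↥X.G1 → ℂ) : ℤ) - c' := by
  classical
  have hoffB : ∀ y ∈ B, ∀ x : ↥X.G1, x⁻¹ * y * x ∈ A → x⁻¹ * y * x = 1 := by
    intro y hy x hx
    have h1 := Subgroup.orderOf_dvd_natCard _ hx
    have h2 := Subgroup.orderOf_dvd_natCard _ hy
    rw [orderOf_conj', hA.card] at h1
    rw [hB.card] at h2
    rw [show y = 1 from orderOf_eq_one_iff.1 (Nat.eq_one_of_dvd_coprimes hab h1 h2)]
    group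
  have hagree : ∀ χ' ∈ S, ∀ y ∈ B, (χ' : ↥X.G1 → ℂ) y = (χ : ↥X.G1 → ℂ) y := fun χ' hχ' y hy =>
    hS.agree χ' hχ' χ hχ y (hoffB y hy)
  have hnotall : ∀ χ' ∈ S, χ' ∉ S' := by
    intro χ' hχ' hmem
    obtain ⟨χ'', hχ'', hne⟩ := Finset.exists_mem_ne (by omega : 1 < S.card) χ'
    by_cases h'' : χ'' ∈ S'
    · obtain ⟨y, hy, -, hne'⟩ := hS'.sep χ' hmem χ'' h'' hne.symm
      exact hne' ((hagree χ' hχ' y hy).trans (hagree χ'' hχ'' y hy).symm)
    · obtain ⟨c, hc⟩ := hS'.const χ'' h''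
      obtain ⟨y, hy, hy1, hne'⟩ := hS'.nonconst χ' hmem (c : ℂ)
      exact hne' (((hagree χ' hχ' y hy).trans (hagree χ'' hχ'' y hy).symm).trans (hc y hy hy1))
  obtain ⟨c', hc'⟩ := hS'.const χ (hnotall χ hχ)
  refine ⟨c', ?_, ?_⟩
  · obtain ⟨y, hy, hy1⟩ : ∃ y ∈ B, y ≠ (1 : ↥X.G1) := by
      by_contra h
      push Not at h
      have hcb := hB.card
      rw [(Subgroup.eq_bot_iff_forall _).2 h, Subgroup.card_bot] at hcb
      omega
    have hw := hS'.weight y hy hy1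
    have hall := sum_norm_sq_irr y
    rw [hB.cent y hy hy1, hB.card] at hall
    have hdisj : Disjoint S' S := Finset.disjoint_right.2 hnotall
    have hle : ∑ χ' ∈ S' ∪ S, ‖(χ' : ↥X.G1 → ℂ) y‖ ^ 2 ≤ (b : ℝ) :=
      hall ▸ Finset.sum_le_sum_of_subset_of_nonneg (Finset.subset_univ _) fun _ _ _ => sq_nonneg _
    rw [Finset.sum_union hdisj, Finset.sum_congr rfl fun χ' _ => (Complex.normSq_eq_norm_sq _).symm,
      Finset.sum_congr rfl (s₁ := S) (g := fun _ => (c' : ℝ) ^ 2) fun χ' hχ' => by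
        rw [hagree χ' hχ' y hy, hc' y hy hy1, ← Complex.ofReal_intCast, Complex.norm_real, Real.norm_eq_abs, sq_abs],
      Finset.sum_const, nsmul_eq_mul] at hle
    have : ((S.card : ℤ) * c' ^ 2 + 0 : ℤ) ≤ ((6 : ℤ) : ℤ) := by
      have h' : ((S.card : ℝ) * (c' : ℝ) ^ 2) ≤ 6 := by linarith
      have h'' : (((S.card : ℤ) * c' ^ 2 : ℤ) : ℝ) ≤ ((6 : ℤ) : ℝ) := by push_cast; linarith
      rw [add_zero]; exact_mod_cast h''
    exact this
  · letI : Fintype B := Fintype.ofFinite _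
    obtain ⟨m, hm'⟩ := classInner_char_nat (IsCharacter.restrict (isCharacter_of_irr χ.2) B)
      (isCharacter_one (G := B))
    rw [classInner_def] at hm'
    simp only [map_one, mul_one] at hm'
    rw [← Finset.add_sum_erase Finset.univ _ (Finset.mem_univ (1 : B)),
      Finset.sum_congr rfl (g := fun _ => (c' : ℂ)) (fun (z : B) hz => hc' (z : ↥X.G1) z.2 fun e =>
        (Finset.mem_erase.1 hz).1 (Subtype.ext e)),
      Finset.sum_const, Finset.card_erase_of_mem (Finset.mem_univ _), Finset.card_univ, nsmul_eq_mul,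
      ← Nat.card_eq_fintype_card, hB.card, OneMemClass.coe_one, irr_apply_one_eq_deg,
      Nat.cast_sub (by omega : 1 ≤ b), Nat.cast_one,
      inv_mul_eq_iff_eq_mul₀ (show (b : ℂ) ≠ 0 by exact_mod_cast (show b ≠ 0 by omega))] at hm'
    refine ⟨(m : ℤ) - c', ?_⟩
    have : (((deg (χ : ↥X.G1 → ℂ) : ℤ) - c' : ℤ) : ℂ) = (((b : ℤ) * ((m : ℤ) - c') : ℤ) : ℂ) := by
      push_cast; linear_combination hm'
    exact_mod_cast this

theorem sq_small {c : ℤ} (h : 3 * c ^ 2 + 0 ≤ 6) : -1 ≤ c ∧ c ≤ 1 := by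
  constructor <;> nlinarith

theorem small_hi (N k s c : ℤ) (hk : 1 ≤ k) (hk' : k ≤ 5) (hN : 0 ≤ N) (hs : s = 1 ∨ s = -1)
    (hc : c = 0 ∨ c = 1 ∨ c = -1) (hc4 : 6 * c * c - 2 * s * c ≤ 4) (hl : -57 ≤ 13 * N - 27 * k)
    (hu : 13 * N - 27 * k ≤ 57) (hT : (37 : ℤ) ∣ 11 * N + 2 * k + 2 * (c + 6 * s)) : False := by
  have hN' : N ≤ 14 := by omega
  rcases hs with rfl | rfl <;> rcases hc with rfl | rfl | rfl <;> interval_cases k <;> interval_cases N <;> omega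

theorem small_lo (N k s c c' : ℤ) (hk : 1 ≤ k) (hk' : k ≤ 5) (hN : 0 ≤ N) (hs : s = 1 ∨ s = -1)
    (hc : c = 0 ∨ c = 1 ∨ c = -1) (hc4 : 3 * c * c - 2 * s * c ≤ 4) (hl : -81 ≤ 13 * N - 27 * k)
    (hu : 13 * N - 27 * k ≤ 81) (hc' : -1 ≤ c') (hc'' : c' ≤ 1) (hT : (19 : ℤ) ∣ -7 * N + 2 * k + 2 * (c + 6 * s))
    (hT' : (37 : ℤ) ∣ 11 * N + 2 * k + 2 * c') : False := by
  have hN' : N ≤ 16 := by omega
  rcases hs with rfl | rfl <;> rcases hc with rfl | rfl | rfl <;> interval_cases k <;> interval_cases N <;> omega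

theorem mid_case (N k s a f : ℤ) (hk : 1 ≤ k) (hk' : k ≤ 5) (hN : 0 ≤ N) (hs : s = 1 ∨ s = -1)
    (hl : -1400 ≤ 242 * N - 486 * k) (hu : 242 * N - 486 * k ≤ 1400)
    (haf : a = 271 ∧ f = 29 ∨ a = 217 ∧ f = -25) (hT : a ∣ f * N + 2 * k + 2 * (0 + 6 * s)) : False := by
  have hN' : N ≤ 15 := by omega
  rcases haf with ⟨rfl, rfl⟩ | ⟨rfl, rfl⟩ <;> rcases hs with rfl | rfl <;> interval_cases k <;> interval_cases N <;>
    omega

set_option maxHeartbeats 1000000 in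
/-- Members of the families have central multiplicity at least six. -/
theorem Fam.kc_ge (h : Fam X A a S) (hm : 1 ≤ X.m) (hA : IsTor X A a) (ha : a = lo X ∨ a = hi X)
    {χ : Cfsg.IrrCharacter ↥X.G1} (hχ : χ ∈ S) : 6 ≤ kc X χ := by
  have hne : χ ≠ one' _ := fun e => h.one_notMem (e ▸ hχ)
  have hk1 := kc_pos X hm hne
  by_contra hlt
  push Not at hlt
  obtain ⟨hd1, N, hN⟩ := h.data hm hA ha hχ
  obtain ⟨hge, hS⟩ := h.card_ge hm ha
  obtain ⟨s, c, hs', hc, hdvd⟩ := h.degree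
  specialize hdvd χ hχ
  set q : ℤ := (Fintype.card K : ℤ) with hq
  set k : ℤ := (kc X χ : ℤ) with hk
  have hqe : q = 3 * (X.e : ℤ) ^ 2 := by rw [hq]; exact_mod_cast q_eq X
  have hD : (deg (χ : ↥X.G1 → ℂ) : ℤ) = (nc X χ : ℤ) + q * (q - 1) * k := by
    have h1 := congrArg (fun n : ℕ => (n : ℤ)) (deg_eq X χ)
    simp only [Nat.cast_add, Nat.cast_mul, Nat.cast_sub (Fintype.card_pos (α := K)), Nat.cast_one] at h1
    exact h1
  obtain ⟨σ, hσ, hσa⟩ : ∃ σ : ℤ, (σ = 1 ∨ σ = -1) ∧ (a : ℤ) = q + 1 + 3 * σ * X.e := by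
    rcases ha with rfl | rfl
    · exact ⟨-1, Or.inr rfl, by rw [lo_int]; ring⟩
    · exact ⟨1, Or.inl rfl, by rw [hi_int]; ring⟩
  -- the congruence
  have hT : (a : ℤ) ∣ (3 * σ * X.e + 2) * N + 2 * k + 2 * (c + 6 * s) := by
    obtain ⟨M, hM⟩ := hdvd
    refine ⟨(N : ℤ) + 2 * k * (q + 1 - 3 * σ * X.e) - 2 * M, ?_⟩
    rw [hσa] at hM ⊢
    rcases hσ with rfl | rfl <;>
      linear_combination (-2 : ℤ) * hM + 2 * hD + hN - 6 * k * hqe
  have hc0 : c = 0 ∨ S.card < 7 ∧ (c = 1 ∨ c = -1) := by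
    have hS' : (3 : ℤ) ≤ S.card := by exact_mod_cast hS
    have hc2 : -1 ≤ c ∧ c ≤ 1 := by
      constructor <;> by_contra h' <;> push Not at h' <;>
        (have h4 : 4 ≤ c * c := by nlinarith
         have h5 : 3 * (c * c) ≤ (S.card : ℤ) * (c * c) := mul_le_mul_of_nonneg_right hS' (by linarith)
         rcases hs' with rfl | rfl <;> nlinarith)
    rcases (show c = 0 ∨ c = 1 ∨ c = -1 by omega) with rfl | rfl | rfl
    · exact Or.inl rfl
    · refine Or.inr ⟨?_, Or.inl rfl⟩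
      rcases hs' with rfl | rfl <;> omega
    · refine Or.inr ⟨?_, Or.inr rfl⟩
      rcases hs' with rfl | rfl <;> omega
  -- the bound on the difference, in integers
  have hint : (S.card : ℤ) * ((q - 1) * N - 2 * q * k) ^ 2 ≤ 4 * q ^ 3 := by
    have h4 : (((S.card : ℤ) * (2 * (nc X χ : ℤ) - 2 * q * k) ^ 2 : ℤ) : ℝ) ≤ ((4 * q ^ 3 : ℤ) : ℝ) := by
      rw [hq, hk]; push_cast; linarith
    rw [← hN]
    exact_mod_cast h4
  have hk0 : 1 ≤ k := by rw [hk]; exact_mod_cast hk1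
  have hk5 : k ≤ 5 := by rw [hk]; exact_mod_cast (show kc X χ ≤ 5 by omega)
  have hN0' : (0 : ℤ) ≤ N := Int.natCast_nonneg _
  have hc3 : c = 0 ∨ c = 1 ∨ c = -1 := by rcases hc0 with h' | ⟨-, h'⟩; exacts [Or.inl h', Or.inr h']
  rcases e_ge X hm with he | he | he
  · -- q = 27
    have hq27 : q = 27 := by rw [hqe, he]; norm_num
    rw [hq27, he] at hσa
    push_cast at hσa
    rw [hq27] at hint
    have hlin : -81 ≤ (13 * (N : ℤ) - 27 * k) ∧ (13 * (N : ℤ) - 27 * k) ≤ 81 :=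
      abs_le_of_sq_le_sq' (by nlinarith [sq_nonneg (13 * (N : ℤ) - 27 * k)]) (by norm_num)
    rw [he] at hT
    push_cast at hT
    have hcard := congrArg (fun n : ℕ => (n : ℤ)) h.card
    push_cast at hcard
    rcases hσ with rfl | rfl
    · have hS6 : (S.card : ℤ) = 6 := by omega
      rw [hS6] at hint hc
      have hsq : (13 * (N : ℤ) - 27 * k) ^ 2 ≤ 3280 := by linarith
      rw [show (a : ℤ) = 37 by omega] at hT
      exact small_hi N k s c hk0 hk5 hN0' hs' hc3 hc (by nlinarith) (by nlinarith) hT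
    · have hS3 : (S.card : ℤ) = 3 := by omega
      rw [show (a : ℤ) = 19 by omega] at hT
      rw [hS3] at hc
      obtain ⟨A', B', -, hB', -, -⟩ := ref_tor X hm
      obtain ⟨S', hS'⟩ := exists_fam X hm hB' (Or.inr rfl)
      have hb : (hi X : ℤ) = 37 := by rw [hi_int, ← hq, hq27, he]; norm_num
      have hco : Nat.Coprime a (hi X) := by
        rw [show a = 19 by omega, show hi X = 37 by omega]
        norm_num
      obtain ⟨c', hc', hdiv⟩ := exists_other_value (b := hi X) hA hB' hco h hS' hS hχ (by omega)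
      rw [hS3] at hc'
      have hc2 : -1 ≤ c' ∧ c' ≤ 1 := sq_small hc'
      rw [hb] at hdiv
      obtain ⟨M, hM⟩ := hdiv
      refine small_lo N k s c c' hk0 hk5 hN0' hs' hc3 hc hlin.1 hlin.2 hc2.1 hc2.2 hT
        ⟨(N : ℤ) + 38 * k - 2 * M, ?_⟩
      rw [hq27] at hD hN
      linear_combination (-2 : ℤ) * hM + 2 * hD + hN
  · -- q = 243
    have hq243 : q = 243 := by rw [hqe, he]; norm_num
    rw [hq243, he] at hσa
    push_cast at hσa
    rw [hq243] at hint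
    have hcard := congrArg (fun n : ℕ => (n : ℤ)) h.card
    push_cast at hcard
    have h36 : (36 : ℤ) ≤ S.card := by rcases hσ with rfl | rfl <;> omega
    have hlin : -1400 ≤ (242 * (N : ℤ) - 486 * k) ∧ (242 * (N : ℤ) - 486 * k) ≤ 1400 :=
      abs_le_of_sq_le_sq' (by nlinarith [sq_nonneg (242 * (N : ℤ) - 486 * k)]) (by norm_num)
    rw [he] at hT
    push_cast at hT
    rcases hc0 with rfl | ⟨h7, -⟩
    · refine mid_case N k s a (3 * σ * 9 + 2) hk0 hk5 hN0' hs' hlin.1 hlin.2 ?_ hT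
      rcases hσ with rfl | rfl <;> omega
    · omega
  · have he' : (27 : ℤ) ≤ X.e := by exact_mod_cast he
    have hS7 : 7 ≤ S.card := by
      have : (42 : ℤ) ≤ 6 * S.card := by nlinarith
      omega
    rcases hc0 with rfl | ⟨h7, -⟩
    · have hN16 : (N : ℤ) ≤ 16 := by
        have hd2 := (h.diff_le hm hA ha hχ).2
        have hd3 : (nc X χ : ℤ) - q * k ≤ 3 * q := by rw [hq, hk]; exact_mod_cast hd2
        have hqbig : (2187 : ℤ) ≤ q := by nlinarith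
        by_contra h'
        push Not at h'
        nlinarith
      have hN0 : (0 : ℤ) ≤ N := Int.natCast_nonneg _
      have hzero : (3 * σ * X.e + 2) * N + 2 * k + 2 * (0 + 6 * s) = 0 := by
        refine Int.eq_zero_of_abs_lt_dvd hT (abs_lt.2 ?_)
        constructor <;> rcases hσ with rfl | rfl <;> rcases hs' with rfl | rfl <;> nlinarith
      rcases Nat.eq_zero_or_pos N with rfl | hpos
      · rcases hs' with rfl | rfl <;> simp at hzero <;> omega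
      · have hN1 : (1 : ℤ) ≤ N := by exact_mod_cast hpos
        rcases hσ with rfl | rfl <;> rcases hs' with rfl | rfl <;> nlinarith
    · omega

end Cfsg.Lib.ReeCover
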